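import Cfsg.Agent.Lib.Char.CliffordCorr
import Cfsg.Agent.Lib.CharDegree.Basic

/-!
# Fully ramified characters: vanishing and restriction
-/

namespace CfsgLib.FullyRamified

open CfsgLib.Char CfsgLib.CharDegree CfsgLib.Clifford
open scoped Classical ComplexConjugate

variable {B : Type*} [Group B] [Fintype B] {Z : Subgroup B} [Fintype Z] {θ : Cfsg.IrrCharacter Z}

/-- The sum of a function vanishing outside a subgroup. -/
theorem sum_eq_sum_of_vanish (f : B → ℂ) (hf : ∀ x, x ∉ Z → f x = 0) :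
    ∑ x, f x = ∑ z : Z, f z :=
  (Fintype.sum_of_injective (Subtype.val : Z → B) Subtype.val_injective (fun z => f z) f
    (fun x hx => hf x fun h => hx ⟨⟨x, h⟩, rfl⟩) fun _ => rfl).symm

theorem sum_theta : ∑ z : Z, (θ : Z → ℂ) z * conj ((θ : Z → ℂ) z) = (Nat.card Z : ℂ) := by
  have h := classInner_irr_self θ
  rw [Cfsg.classInner, inv_mul_eq_iff_eq_mul₀ (Nat.cast_ne_zero.mpr Nat.card_pos.ne'),
    mul_one] at h
  exact h

/-- A character that is a multiple of `θ` on `Z`: the square of the multiple is at most the index,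
and with equality the character vanishes outside `Z`. -/
theorem sq_le_and_vanish (ψ : Cfsg.IrrCharacter B) (a : ℕ)
    (h : ∀ z : Z, (ψ : B → ℂ) z = a * (θ : Z → ℂ) z) :
    a ^ 2 ≤ Z.index ∧ (a ^ 2 = Z.index → ∀ x, x ∉ Z → (ψ : B → ℂ) x = 0) := by
  set S : Finset B := Finset.univ.filter fun x => x ∈ Z with hS
  have hall : (∑ x, ‖(ψ : B → ℂ) x‖ ^ 2 : ℝ) = Nat.card B := by
    have h1 := classInner_irr_self ψ
    rw [Cfsg.classInner, inv_mul_eq_iff_eq_mul₀ (Nat.cast_ne_zero.mpr Nat.card_pos.ne'),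
      mul_one] at h1
    simp only [Complex.mul_conj'] at h1
    exact_mod_cast h1
  have hin : (∑ x ∈ S, ‖(ψ : B → ℂ) x‖ ^ 2 : ℝ) = (a : ℝ) ^ 2 * Nat.card Z := by
    rw [hS, Finset.sum_subtype (p := fun x => x ∈ Z) _ (fun x => by simp)]
    have h1 := sum_theta (θ := θ)
    simp only [Complex.mul_conj'] at h1
    have h1' : (∑ z : Z, ‖(θ : Z → ℂ) z‖ ^ 2 : ℝ) = Nat.card Z := by exact_mod_cast h1
    rw [← h1', Finset.mul_sum]
    refine Finset.sum_congr rfl fun z _ => ?_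
    rw [h, norm_mul, Complex.norm_natCast, mul_pow]
  rw [← Finset.sum_add_sum_compl S, hin, ← Z.card_mul_index, Nat.cast_mul] at hall
  have hout : 0 ≤ (∑ x ∈ Sᶜ, ‖(ψ : B → ℂ) x‖ ^ 2 : ℝ) :=
    Finset.sum_nonneg fun _ _ => by positivity
  have hZ : (0 : ℝ) < Nat.card Z := by exact_mod_cast Nat.card_pos
  refine ⟨?_, fun ha x hx => ?_⟩
  · have h2 : ((a : ℝ) ^ 2) * Nat.card Z ≤ (Z.index : ℝ) * Nat.card Z := by linarith
    exact_mod_cast le_of_mul_le_mul_right h2 hZ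
  · have ha' : (a : ℝ) ^ 2 = Z.index := by exact_mod_cast ha
    rw [ha', mul_comm (Z.index : ℝ)] at hall
    have h0 : (∑ x ∈ Sᶜ, ‖(ψ : B → ℂ) x‖ ^ 2 : ℝ) = 0 := by linarith
    have h1 := (Finset.sum_eq_zero_iff_of_nonneg fun _ _ => by positivity).mp h0 x
      (Finset.mem_compl.mpr fun hxS => hx (Finset.mem_filter.mp hxS).2)
    exact norm_eq_zero.mp (pow_eq_zero_iff two_ne_zero |>.mp h1)

/-- A function supported on `Z`, proportional to `θ` there, paired with a character. -/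
theorem pairing {Φ : B → ℂ} {e : ℕ} (hv : ∀ x, x ∉ Z → Φ x = 0)
    (hr : ∀ z : Z, Φ z = e * (θ : Z → ℂ) z) (ψ : B → ℂ) :
    (Nat.card B : ℂ) * Cfsg.classInner Φ ψ =
      e * Nat.card Z * Cfsg.classInner (θ : Z → ℂ) (fun z : Z => ψ z) := by
  simp only [Cfsg.classInner]
  rw [← mul_assoc, mul_inv_cancel₀ (Nat.cast_ne_zero.mpr Nat.card_pos.ne'), one_mul,
    mul_assoc (e : ℂ) _ _, ← mul_assoc (Nat.card Z : ℂ),
    mul_inv_cancel₀ (Nat.cast_ne_zero.mpr Nat.card_pos.ne'), one_mul,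
    sum_eq_sum_of_vanish (Z := Z) _ (fun x hx => by rw [hv x hx, zero_mul]), Finset.mul_sum]
  exact Finset.sum_congr rfl fun z _ => by rw [hr, mul_assoc]

/-- Constituents of a character proportional to `θ` on `Z` are proportional to `θ` there. -/
theorem exists_mult {Φ : B → ℂ} {e : ℕ} (hΦ : Cfsg.IsCharacter B Φ)
    (hr : ∀ z : Z, Φ z = e * (θ : Z → ℂ) z) (ψ : Cfsg.IrrCharacter B)
    (hc : Cfsg.classInner Φ (ψ : B → ℂ) ≠ 0) :
    ∃ a : ℕ, 0 < a ∧ ∀ z : Z, (ψ : B → ℂ) z = a * (θ : Z → ℂ) z := by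
  have := Fintype.ofFinite (Cfsg.IrrCharacter B)
  have := Fintype.ofFinite (Cfsg.IrrCharacter Z)
  choose c hcφ using fun φ : Cfsg.IrrCharacter B =>
    IsChar.classInner_eq_natCast hΦ (IsIrr.isCharacter φ.2)
  choose d hd using fun (φ : Cfsg.IrrCharacter B) (η : Cfsg.IrrCharacter Z) =>
    IsChar.classInner_eq_natCast (IsChar.restrict Z (IsIrr.isCharacter φ.2))
      (IsIrr.isCharacter η.2)
  have hsum := classFunction_eq_sum (IsChar.isClassFunction hΦ)
  have hres : (fun z : Z => Φ z) = ∑ φ : Cfsg.IrrCharacter B,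
      Cfsg.classInner Φ (φ : B → ℂ) • fun z : Z => (φ : B → ℂ) z := by
    funext z
    conv_lhs => rw [hsum]
    simp
  have key : ∀ η : Cfsg.IrrCharacter Z, η ≠ θ → d ψ η = 0 := by
    intro η hη
    have h0 : Cfsg.classInner (fun z : Z => Φ z) (η : Z → ℂ) = 0 := by
      rw [show (fun z : Z => Φ z) = (e : ℂ) • (θ : Z → ℂ) from funext fun z => hr z,
        classInner_smul_left, classInner_irr, if_neg (Ne.symm hη), mul_zero]
    rw [hres, classInner_sum_left] at h0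
    simp only [classInner_smul_left, hcφ, hd] at h0
    have h1 : ∑ φ, c φ * d φ η = 0 := by exact_mod_cast h0
    have h2 := Finset.sum_eq_zero_iff.mp h1 ψ (Finset.mem_univ _)
    refine (Nat.mul_eq_zero.mp h2).resolve_left fun h => hc ?_
    rw [hcφ, h, Nat.cast_zero]
  have hψ : ∀ z : Z, (ψ : B → ℂ) z = d ψ θ * (θ : Z → ℂ) z := by
    intro z
    have h := congrFun (classFunction_eq_sum
      (IsChar.isClassFunction (IsChar.restrict Z (IsIrr.isCharacter ψ.2)))) z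
    rw [Finset.sum_apply, Finset.sum_eq_single θ
      (fun η _ hη => by rw [Pi.smul_apply, hd, key η hη, Nat.cast_zero, zero_smul])
      (fun h => absurd (Finset.mem_univ _) h), Pi.smul_apply, hd, smul_eq_mul] at h
    exact h
  refine ⟨d ψ θ, Nat.pos_of_ne_zero fun h0 => IsIrr.apply_one_ne_zero ψ.2 ?_, hψ⟩
  have h := hψ 1
  rw [h0, Nat.cast_zero, zero_mul] at h
  exact h

variable {A : Subgroup B} [hA : A.Normal] [Fintype A] {ψ : Cfsg.IrrCharacter B} {a : ℕ}

omit [Fintype Z] in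
/-- Restriction of a fully ramified character to a normal subgroup between. -/
theorem restrict_normal (hZA : Z ≤ A) (hv : ∀ x, x ∉ Z → (ψ : B → ℂ) x = 0)
    (hr : ∀ z : Z, (ψ : B → ℂ) z = a * (θ : Z → ℂ) z) (η : Cfsg.IrrCharacter A)
    (hη : Cfsg.classInner (fun x : A => (ψ : B → ℂ) x) (η : A → ℂ) ≠ 0) :
    (∃ b m : ℕ, 0 < b ∧ (∀ z : Z, (η : A → ℂ) ⟨z, hZA z.2⟩ = b * (θ : Z → ℂ) z) ∧
      m * (inertia hA (η : A → ℂ)).index * b = a ∧ m * Nat.card A = a * b * Nat.card Z) ∧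
    ∀ η' : Cfsg.IrrCharacter A, Cfsg.classInner (fun x : A => (ψ : B → ℂ) x) (η' : A → ℂ) ≠ 0 →
      ∃ g : B, (η' : A → ℂ) = conjFn hA (η : A → ℂ) g := by
  have := Fintype.ofFinite (Z.subgroupOf A)
  have := Fintype.ofFinite (Cfsg.IrrCharacter A)
  let e : Z.subgroupOf A ≃* Z := Subgroup.subgroupOfEquivOfLe hZA
  let θ' : Cfsg.IrrCharacter (Z.subgroupOf A) :=
    ⟨fun z => (θ : Z → ℂ) (e z), IsIrr.comp_surjective e.toMonoidHom e.surjective θ.2⟩
  have hψA : Cfsg.IsCharacter A fun x : A => (ψ : B → ℂ) x := IsChar.restrict A (IsIrr.isCharacter ψ.2)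
  have hr' : ∀ z : Z.subgroupOf A, (ψ : B → ℂ) ((z : A) : B) = a * (θ' : Z.subgroupOf A → ℂ) z :=
    fun z => hr (e z)
  have hv' : ∀ x : A, x ∉ Z.subgroupOf A → (ψ : B → ℂ) x = 0 :=
    fun x hx => hv x fun h => hx (Subgroup.mem_subgroupOf.mpr h)
  obtain ⟨b, hb, hbz⟩ := exists_mult (θ := θ') hψA hr' η hη
  obtain ⟨m, hm⟩ := IsChar.classInner_eq_natCast hψA (IsIrr.isCharacter η.2)
  have hdeg := degree_eq hA η.2 ψ.2 hη
  rw [hm] at hdeg
  have h1 : (η : A → ℂ) 1 = b * (θ : Z → ℂ) 1 := by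
    have h := hbz 1
    rwa [show (θ' : Z.subgroupOf A → ℂ) 1 = (θ : Z → ℂ) 1 from
      congrArg (θ : Z → ℂ) (map_one e)] at h
  have h2 : (ψ : B → ℂ) 1 = a * (θ : Z → ℂ) 1 := hr 1
  rw [h2, h1, ← mul_assoc] at hdeg
  have hcount : m * (inertia hA (η : A → ℂ)).index * b = a := by
    have := mul_right_cancel₀ (IsIrr.apply_one_ne_zero θ.2) hdeg
    exact_mod_cast this.symm
  have hpair : m * Nat.card A = a * b * Nat.card Z := by
    have h := pairing (θ := θ') hv' hr' (η : A → ℂ)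
    rw [hm, show (fun z : Z.subgroupOf A => (η : A → ℂ) z) =
      (b : ℂ) • (θ' : Z.subgroupOf A → ℂ) from funext fun z => hbz z, classInner_smul_right,
      classInner_irr_self, Complex.conj_natCast, mul_one,
      Nat.card_congr e.toEquiv] at h
    have h' : Nat.card A * m = a * Nat.card Z * b := by exact_mod_cast h
    rw [mul_comm m, h']; ring
  refine ⟨⟨b, m, hb, fun z => ?_, hcount, hpair⟩, fun η' hη' => ?_⟩
  · exact (hbz (e.symm z)).trans (congrArg ((b : ℂ) * ·) (congrArg (θ : Z → ℂ) (e.apply_symm_apply z)))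
  by_contra hno
  push Not at hno
  apply hη'
  rw [restrict_eq_smul_orbit_sum hA ψ.2 η.2 hη, classInner_smul_left, classInner_sum_left,
    Finset.sum_eq_zero, mul_zero]
  intro f hf
  obtain ⟨g, -, rfl⟩ := Finset.mem_image.mp hf
  have hirr : Cfsg.IsIrrCharacter A (conjFn hA (η : A → ℂ) g) := isIrrCharacter_conjFn hA η.2 g
  rw [classInner_irr ⟨_, hirr⟩ η', if_neg fun h => hno g (congrArg Subtype.val h).symm]

end CfsgLib.FullyRamified
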