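import Cfsg.Agent.Lib.Char.FullyRamified.Twisted
import Mathlib.GroupTheory.QuotientGroup.Basic
import Mathlib.GroupTheory.Perm.Cycle.Type
import Cfsg.Agent.Lib.Orders.SelfNormalizingSolvable

/-!
# Solvable groups inside central quotients of groups of central type
-/

namespace CfsgLib.FullyRamified

open CfsgLib.Char CfsgLib.CharDegree
open scoped Classical ComplexConjugate

universe u

/-- The centre candidate in the twisted power. -/
def Tw.zSub (H₀ : Type u) [Group H₀] (p : ℕ) : Subgroup (Tw H₀ p) where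
  carrier := {x | (∀ i, x.f i ∈ Subgroup.center H₀) ∧ x.a = 0 ∧ x.b = 0}
  one_mem' := ⟨fun _ => Subgroup.one_mem _, rfl, rfl⟩
  mul_mem' := fun {x y} hx hy =>
    ⟨fun i => Subgroup.mul_mem _ (hx.1 i) (hy.1 _),
      show x.a + y.a = 0 by rw [hx.2.1, hy.2.1, add_zero],
      show x.b + y.b = 0 by rw [hx.2.2, hy.2.2, add_zero]⟩
  inv_mem' := fun {x} hx =>
    ⟨fun i => Subgroup.inv_mem _ (hx.1 _), show -x.a = 0 by rw [hx.2.1, neg_zero],
      show -x.b = 0 by rw [hx.2.2, neg_zero]⟩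

variable {H₀ : Type u} [Group H₀] [Fintype H₀] {p : ℕ} [hp : Fact p.Prime]

/-- One step of the construction. -/
theorem exists_twisted (χ : Cfsg.IrrCharacter H₀)
    (hfaith : ∀ h : H₀, (χ : H₀ → ℂ) h = (χ : H₀ → ℂ) 1 → h = 1)
    (hsq : Cfsg.charDegree (χ : H₀ → ℂ) ^ 2 = (Subgroup.center H₀).index)
    (hsf : Squarefree (Nat.card (Subgroup.center H₀))) :
    ∃ (H : Type u) (_ : Group H) (_ : Finite H) (ψ : Cfsg.IrrCharacter H),
      (∀ h : H, (ψ : H → ℂ) h = (ψ : H → ℂ) 1 → h = 1) ∧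
      Cfsg.charDegree (ψ : H → ℂ) ^ 2 = (Subgroup.center H).index ∧
      (∃ F : Tw H₀ p →* H ⧸ Subgroup.center H, F.ker = Tw.zSub H₀ p) ∧
      Cfsg.charDegree (ψ : H → ℂ) = p * Cfsg.charDegree (χ : H₀ → ℂ) ^ p ∧
      Nat.card (Subgroup.center H₀) ∣ Nat.card (Subgroup.center H) ∧
      p ∣ Nat.card (Subgroup.center H) ∧
      Nat.card (Subgroup.center H) ∣ Nat.lcm (Nat.card (Subgroup.center H₀)) p ∧
      Squarefree (Nat.card (Subgroup.center H)) := by
  obtain ⟨l, hlinj, hl, hoff⟩ := exists_central_char χ hfaith hsq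
  set d := Cfsg.charDegree (χ : H₀ → ℂ) with hddef
  have hd : d ≠ 0 := (charDegree_pos χ).ne'
  set Zt := Tw.zSub H₀ p with hZt
  have := Fintype.ofFinite Zt
  let E : Zt ≃ (ZMod p → Subgroup.center H₀) × ZMod p :=
    { toFun := fun x => (fun i => ⟨(x : Tw H₀ p).f i, x.2.1 i⟩, (x : Tw H₀ p).z)
      invFun := fun w => ⟨⟨fun i => (w.1 i : H₀), w.2, 0, 0⟩, fun i => (w.1 i).2, rfl, rfl⟩
      left_inv := fun x => Subtype.ext (Tw.ext rfl rfl x.2.2.1.symm x.2.2.2.symm)
      right_inv := fun w => rfl }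
  let lam0 : Zt →* ℂ :=
    { toFun := fun x => (∏ i, (l ((E x).1 i) : ℂ)) * omega p ^ (E x).2.val
      map_one' := by
        show (∏ _i : ZMod p, (l ⟨1, _⟩ : ℂ)) * omega p ^ (0 : ZMod p).val = 1
        rw [ZMod.val_zero, pow_zero, mul_one]
        exact Finset.prod_eq_one fun i _ => congrArg Units.val (map_one l)
      map_mul' := fun x y => by
        show (∏ i, (l ⟨(x : Tw H₀ p).f i * (y : Tw H₀ p).f (i + (x : Tw H₀ p).b), _⟩ : ℂ)) *
          omega p ^ ((x : Tw H₀ p).z + (y : Tw H₀ p).z + (x : Tw H₀ p).b * (y : Tw H₀ p).a).val = _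
        have hb : (x : Tw H₀ p).b = 0 := x.2.2.2
        simp only [hb, zero_mul, add_zero, omega_pow_add]
        rw [mul_mul_mul_comm, ← Finset.prod_mul_distrib]
        congr 1
        refine Finset.prod_congr rfl fun i _ => ?_
        rw [← Units.val_mul, ← map_mul]
        rfl }
  let lam : Zt →* ℂˣ := lam0.toHomUnits
  -- values
  have hon : ∀ x : Zt, twChar χ (x : Tw H₀ p) = ((p * d ^ p : ℕ) : ℂ) * (lam x : ℂ) := by
    intro x
    rw [twChar_coe χ _ x.2.2.2, if_pos x.2.2.1,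
      Finset.prod_congr rfl (g := fun i => (d : ℂ) * (l ((E x).1 i) : ℂ)) fun i _ =>
        (show (χ : H₀ → ℂ) ((x : Tw H₀ p).f i) = _ from hl ((E x).1 i)),
      Finset.prod_mul_distrib, Finset.prod_const, Finset.card_univ, ZMod.card]
    show _ = _ * ((∏ i, (l ((E x).1 i) : ℂ)) * omega p ^ (E x).2.val)
    push_cast
    show _ * omega p ^ (E x).2.val * _ = _
    ring
  have hout : ∀ x : Tw H₀ p, x ∉ Zt → twChar χ x = 0 := by
    intro x hx
    by_cases hb : x.b = 0
    · rw [twChar_coe χ _ hb]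
      by_cases ha : x.a = 0
      · obtain ⟨i, hi⟩ : ∃ i, x.f i ∉ Subgroup.center H₀ := by
          by_contra h
          push Not at h
          exact hx ⟨h, ha, hb⟩
        rw [Finset.prod_eq_zero (Finset.mem_univ i) (hoff _ hi), zero_mul, zero_mul]
      · rw [if_neg ha, mul_zero]
    · exact twChar_off χ x hb
  let θ : Cfsg.IrrCharacter Zt := ⟨fun x => (lam x : ℂ), isIrrCharacter_linear lam⟩
  have hZcard : Nat.card Zt = Nat.card (Subgroup.center H₀) ^ p * p := by
    rw [Nat.card_congr E, Nat.card_prod, Nat.card_fun, Nat.card_zmod]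
  have hidx : (p * d ^ p) ^ 2 = Zt.index := by
    refine Nat.eq_of_mul_eq_mul_left (Nat.card_pos (α := Zt)) ?_
    rw [Zt.card_mul_index, hZcard, Tw.card_eq, ← (Subgroup.center H₀).card_mul_index, ← hsq]
    ring
  have hirr : Cfsg.IsIrrCharacter (Tw H₀ p) (twChar χ) := by
    refine IsChar.isIrr_of_classInner_eq_one
      (isCharacter_indFun _ (isCharacter_baseChar (p := p) χ)) ?_
    have h := pairing (θ := θ) hout hon (twChar χ)
    rw [show (fun z : Zt => twChar χ (z : Tw H₀ p)) = ((p * d ^ p : ℕ) : ℂ) • (θ : Zt → ℂ) from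
      funext hon, classInner_smul_right, classInner_irr_self, mul_one, Complex.conj_natCast,
      ← Zt.card_mul_index, ← hidx] at h
    refine mul_left_cancel₀ (Nat.cast_ne_zero.mpr (Nat.mul_ne_zero Nat.card_pos.ne'
      (pow_ne_zero 2 (Nat.mul_ne_zero hp.out.ne_zero (pow_ne_zero p hd))))) (h.trans ?_)
    push_cast
    ring
  let X : Cfsg.IrrCharacter (Tw H₀ p) := ⟨_, hirr⟩
  have hX1 : (X : Tw H₀ p → ℂ) 1 = ((p * d ^ p : ℕ) : ℂ) := by
    show twChar χ ((1 : Zt) : Tw H₀ p) = _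
    rw [hon, map_one, Units.val_one, mul_one]
  have hker : ∀ x, x ∈ kerSubgroup X → ∃ hx : x ∈ Zt, lam ⟨x, hx⟩ = 1 := by
    intro x hx
    have h := mem_kerSubgroup.mp hx
    have hxZ : x ∈ Zt := by
      by_contra hn
      exact IsIrr.apply_one_ne_zero X.2 (h.symm.trans (hout x hn))
    refine ⟨hxZ, Units.ext ?_⟩
    have h' : twChar χ ((⟨x, hxZ⟩ : Zt) : Tw H₀ p) = (X : Tw H₀ p → ℂ) 1 := h
    rw [hon, hX1] at h'
    exact (mul_eq_left₀ (Nat.cast_ne_zero.mpr
      (Nat.mul_ne_zero hp.out.ne_zero (pow_ne_zero p hd)))).mp h'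
  have := kerSubgroup_normal X
  obtain ⟨ψ, hψ⟩ := exists_infl (kerSubgroup X) X fun g hg => mem_kerSubgroup.mp hg
  have hψv : ∀ x : Tw H₀ p, (ψ : Tw H₀ p ⧸ kerSubgroup X → ℂ) (QuotientGroup.mk' (kerSubgroup X) x) = twChar χ x :=
    fun x => congrArg (fun w : Cfsg.IrrCharacter (Tw H₀ p) => (w : Tw H₀ p → ℂ) x) hψ
  have hψf : ∀ h, (ψ : Tw H₀ p ⧸ kerSubgroup X → ℂ) h = (ψ : Tw H₀ p ⧸ kerSubgroup X → ℂ) 1 → h = 1 := by
    intro h hh
    obtain ⟨x, rfl⟩ := QuotientGroup.mk'_surjective (kerSubgroup X) h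
    refine (QuotientGroup.eq_one_iff x).mpr (mem_kerSubgroup.mpr ?_)
    show twChar χ x = twChar χ 1
    rw [← hψv, ← hψv, map_one]
    exact hh
  have hψdeg : Cfsg.charDegree (ψ : Tw H₀ p ⧸ kerSubgroup X → ℂ) = p * d ^ p := by
    rw [← charDegree_infl, hψ]
    exact charDegree_eq_of_apply_one hX1
  have hcen : ∀ x : Tw H₀ p,
      QuotientGroup.mk' (kerSubgroup X) x ∈ Subgroup.center _ ↔ x ∈ Zt := by
    intro x
    obtain ⟨n, ρ, hρ, hρψ, hn⟩ := exists_rep ψ
    constructor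
    · intro hx
      obtain ⟨c, hc⟩ := CfsgLib.CharIntegral.exists_scalar_of_commute ρ
        (ρ (QuotientGroup.mk' (kerSubgroup X) x)) fun a => by
          rw [← map_mul, ← map_mul, Subgroup.mem_center_iff.mp hx a]
      by_contra hxZ
      have h0 := hout x hxZ
      rw [← hψv, ← congrFun hρψ] at h0
      simp only [Representation.character, hc, map_smul, LinearMap.trace_id, smul_eq_mul,
        mul_eq_zero, Module.finrank_fin_fun, Nat.cast_eq_zero] at h0
      rcases h0 with h0 | h0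
      · have h1 : ρ (QuotientGroup.mk' (kerSubgroup X) x) = 0 := by rw [hc, h0, zero_smul]
        have h2 : ρ 1 = 0 := by
          rw [← mul_inv_cancel (QuotientGroup.mk' (kerSubgroup X) x), map_mul, h1, zero_mul]
        apply IsIrr.apply_one_ne_zero ψ.2
        rw [← congrFun hρψ, Representation.character, h2, map_zero]
      · rw [hn] at h0
        exact (charDegree_pos ψ).ne' h0
    · intro hx
      rw [Subgroup.mem_center_iff]
      intro q
      obtain ⟨y, rfl⟩ := QuotientGroup.mk'_surjective (kerSubgroup X) q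
      rw [← map_mul, ← map_mul, QuotientGroup.mk'_apply, QuotientGroup.mk'_apply, QuotientGroup.eq,
        mem_kerSubgroup]
      have hcl : twChar χ (y * x * y⁻¹) = twChar χ x := IsIrr.isClassFunction hirr x y
      have hy : y * x * y⁻¹ ∈ Zt := by
        by_contra hn'
        rw [hout _ hn', hon ⟨x, hx⟩] at hcl
        exact (lam ⟨x, hx⟩).ne_zero ((mul_eq_zero.mp hcl.symm).resolve_left
          (Nat.cast_ne_zero.mpr (Nat.mul_ne_zero hp.out.ne_zero (pow_ne_zero p hd))))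
      rw [show (y * x)⁻¹ * (x * y) = y⁻¹ * ((y * x * y⁻¹)⁻¹ * x) * y⁻¹⁻¹ by group,
        show (X : Tw H₀ p → ℂ) (y⁻¹ * ((y * x * y⁻¹)⁻¹ * x) * y⁻¹⁻¹) = _ from
          IsIrr.isClassFunction hirr _ y⁻¹]
      have hmem : (y * x * y⁻¹)⁻¹ * x ∈ Zt := Zt.mul_mem (Zt.inv_mem hy) hx
      show twChar χ ((⟨_, hmem⟩ : Zt) : Tw H₀ p) = _
      rw [hon, hX1, show (⟨_, hmem⟩ : Zt) = (⟨_, hy⟩ : Zt)⁻¹ * ⟨x, hx⟩ from rfl, map_mul, map_inv]
      have heq : lam ⟨_, hy⟩ = lam ⟨x, hx⟩ := Units.ext (mul_left_cancel₀ (Nat.cast_ne_zero.mpr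
        (Nat.mul_ne_zero hp.out.ne_zero (pow_ne_zero p hd)))
        ((hon ⟨_, hy⟩).symm.trans (hcl.trans (hon ⟨x, hx⟩))))
      rw [heq, inv_mul_cancel, Units.val_one, mul_one]
  -- the centre has the order of the range of `lam`
  let φc : Zt →* Subgroup.center (Tw H₀ p ⧸ kerSubgroup X) :=
    ((QuotientGroup.mk' (kerSubgroup X)).comp Zt.subtype).codRestrict _ fun x =>
      (hcen x).mpr x.2
  have hφs : Function.Surjective φc := by
    rintro ⟨q, hq⟩
    obtain ⟨x, rfl⟩ := QuotientGroup.mk'_surjective (kerSubgroup X) q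
    exact ⟨⟨x, (hcen x).mp hq⟩, rfl⟩
  have hφk : φc.ker = lam.ker := by
    ext x
    rw [MonoidHom.mem_ker, MonoidHom.mem_ker, Subtype.ext_iff]
    show QuotientGroup.mk' (kerSubgroup X) (x : Tw H₀ p) = 1 ↔ _
    rw [QuotientGroup.mk'_apply, QuotientGroup.eq_one_iff]
    refine ⟨fun h => ?_, fun h => mem_kerSubgroup.mpr ?_⟩
    · obtain ⟨_, h'⟩ := hker _ h
      exact h'
    · show twChar χ (x : Tw H₀ p) = _
      rw [hon, hX1, h, Units.val_one, mul_one]
  have hcardZ : Nat.card (Subgroup.center (Tw H₀ p ⧸ kerSubgroup X)) = Nat.card lam.range := by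
    rw [← Subgroup.index_ker lam, ← hφk, Subgroup.index_ker,
      MonoidHom.range_eq_top.mpr hφs, Subgroup.card_top]
  set L := Nat.lcm (Nat.card (Subgroup.center H₀)) p with hL
  have : NeZero L := ⟨Nat.lcm_ne_zero Nat.card_pos.ne' hp.out.ne_zero⟩
  have hdvdL : Nat.card lam.range ∣ L := by
    have hle : lam.range ≤ rootsOfUnity L ℂ := by
      rintro _ ⟨x, rfl⟩
      rw [mem_rootsOfUnity]
      refine Units.ext ?_
      show ((∏ i, (l ((E x).1 i) : ℂ)) * omega p ^ (E x).2.val) ^ L = 1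
      rw [mul_pow, ← Finset.prod_pow, Finset.prod_eq_one, one_mul, ← pow_mul, mul_comm, pow_mul]
      · obtain ⟨k, hk⟩ := (Nat.dvd_lcm_right (Nat.card (Subgroup.center H₀)) p : p ∣ L)
        rw [show L = p * k from hk, pow_mul, (omega_isPrimitiveRoot p).pow_eq_one, one_pow, one_pow]
      · intro i _
        obtain ⟨k, hk⟩ := (Nat.dvd_lcm_left (Nat.card (Subgroup.center H₀)) p :
          Nat.card (Subgroup.center H₀) ∣ L)
        rw [← Units.val_pow_eq_pow_val, ← map_pow, show L = Nat.card (Subgroup.center H₀) * k from hk, pow_mul, pow_card_eq_one', one_pow, map_one,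
          Units.val_one]
    have h := Subgroup.card_dvd_of_le hle
    rwa [Complex.card_rootsOfUnity] at h
  have hdvd0 : Nat.card (Subgroup.center H₀) ∣ Nat.card lam.range := by
    rw [Nat.card_congr (MonoidHom.ofInjective hlinj).toEquiv]
    refine Subgroup.card_dvd_of_le ?_
    rintro _ ⟨c, rfl⟩
    refine ⟨E.symm (fun i => if i = 0 then c else 1, 0), Units.ext ?_⟩
    show (∏ i, (l (if i = 0 then c else 1) : ℂ)) * omega p ^ (0 : ZMod p).val = _
    rw [ZMod.val_zero, pow_zero, mul_one, Finset.prod_eq_single (0 : ZMod p)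
      (fun i _ hi => by rw [if_neg hi, map_one, Units.val_one])
      (fun h => absurd (Finset.mem_univ _) h), if_pos rfl]
  have hdvdp : p ∣ Nat.card lam.range := by
    have hmem : lam (E.symm (fun _ => 1, 1)) ∈ lam.range := ⟨_, rfl⟩
    have h := orderOf_dvd_natCard (⟨_, hmem⟩ : lam.range)
    rw [← Subgroup.orderOf_coe, ← orderOf_units] at h
    have hval : (lam (E.symm (fun _ => 1, 1)) : ℂ) = omega p := by
      show (∏ _i : ZMod p, (l 1 : ℂ)) * omega p ^ (1 : ZMod p).val = _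
      rw [map_one, Units.val_one, Finset.prod_const_one, one_mul, ZMod.val_one, pow_one]
    rwa [show (((⟨_, hmem⟩ : lam.range) : ℂˣ) : ℂ) = omega p from hval,
      ← (omega_isPrimitiveRoot p).eq_orderOf] at h
  have hLsf : Squarefree L := by
    by_cases h : p ∣ Nat.card (Subgroup.center H₀)
    · rwa [hL, Nat.lcm_eq_left h]
    · have hc : (Nat.card (Subgroup.center H₀)).Coprime p := (hp.out.coprime_iff_not_dvd.mpr h).symm
      rw [hL, hc.lcm_eq_mul, Nat.squarefree_mul hc]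
      exact ⟨hsf, hp.out.prime.squarefree⟩
  have hidx' : (Subgroup.center (Tw H₀ p ⧸ kerSubgroup X)).index = Zt.index := by
    rw [← Subgroup.index_comap_of_surjective _ (QuotientGroup.mk'_surjective (kerSubgroup X))]
    congr 1
    ext x
    exact hcen x
  refine ⟨Tw H₀ p ⧸ kerSubgroup X, inferInstance, inferInstance, ψ, hψf, ?_, ?_, hψdeg, ?_, ?_,
    ?_, ?_⟩
  · rw [hψdeg, hidx', hidx]
  · refine ⟨(QuotientGroup.mk' (Subgroup.center _)).comp (QuotientGroup.mk' (kerSubgroup X)), ?_⟩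
    ext x
    rw [MonoidHom.mem_ker, MonoidHom.comp_apply, QuotientGroup.mk'_apply, QuotientGroup.eq_one_iff]
    exact hcen x
  · rw [hcardZ]; exact hdvd0
  · rw [hcardZ]; exact hdvdp
  · rw [hcardZ]; exact hdvdL
  · rw [hcardZ]; exact hLsf.squarefree_of_dvd hdvdL

/-- Every solvable group embeds into the central quotient of a group of central type. -/
theorem exists_central_type : ∀ (n : ℕ) (G : Type u) [Group G] [Finite G], Nat.card G ≤ n →
    Group.IsSolvable G →
    ∃ (H : Type u) (_ : Group H) (_ : Finite H) (χ : Cfsg.IrrCharacter H),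
      (∀ h : H, (χ : H → ℂ) h = (χ : H → ℂ) 1 → h = 1) ∧
      Cfsg.charDegree (χ : H → ℂ) ^ 2 = (Subgroup.center H).index ∧
      (∃ f : G →* H ⧸ Subgroup.center H, Function.Injective f) ∧
      (∀ q : ℕ, q.Prime → ((q ∣ Nat.card H ↔ q ∣ Nat.card G) ∧
        (q ∣ Nat.card (Subgroup.center H) ↔ q ∣ Nat.card G))) ∧
      Squarefree (Nat.card (Subgroup.center H)) := by
  intro n
  induction n with
  | zero => intro G _ _ h; exact absurd Nat.card_pos h.not_gt
  | succ n ih =>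
  intro G _ _ hn hsolv
  rcases subsingleton_or_nontrivial G with hs | hs
  · have hG : Nat.card G = 1 := Nat.card_eq_one_iff_unique.mpr ⟨hs, ⟨1⟩⟩
    refine ⟨PUnit.{u + 1}, inferInstance, inferInstance, trivChar _, fun h _ => Subsingleton.elim _ _,
      ?_, ⟨1, fun a b _ => Subsingleton.elim a b⟩, fun q hq => ?_, ?_⟩
    · rw [show Cfsg.charDegree (trivChar PUnit.{u + 1} : PUnit.{u + 1} → ℂ) = 1 from charDegree_one,
        one_pow, eq_comm, Subgroup.index_eq_one]
      exact Subsingleton.elim _ _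
    · rw [show Nat.card (Subgroup.center PUnit.{u + 1}) = 1 from
        Nat.card_eq_one_iff_unique.mpr ⟨inferInstance, ⟨1⟩⟩]
      simp [hG]
    · rw [show Nat.card (Subgroup.center PUnit.{u + 1}) = 1 from
        Nat.card_eq_one_iff_unique.mpr ⟨inferInstance, ⟨1⟩⟩]
      exact squarefree_one
  obtain ⟨N, p, hp, hN, hidx⟩ := CfsgLib.Orders.SelfNorm.exists_prime_index_normal (G := G)
  have := Fact.mk hp
  have hlt : Nat.card N ≤ n := by
    have h := N.card_mul_index
    have h1 : Nat.card N < Nat.card G := by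
      rw [← h, hidx]; exact lt_mul_of_one_lt_right Nat.card_pos hp.one_lt
    omega
  obtain ⟨H₀, _, _, χ, hf, hsq, ⟨f₀, hf₀⟩, hpr, hsf⟩ := ih N hlt inferInstance
  have := Fintype.ofFinite H₀
  obtain ⟨H, iG, iF, ψ, hψf, hψsq, ⟨F, hF⟩, hψd, h0, hp', hL, hψsf⟩ :=
    exists_twisted (p := p) χ hf hsq hsf
  -- the coordinates
  obtain ⟨s₁, hs₁⟩ : ∃ x : G, x ∉ N := by
    by_contra h
    push Not at h
    rw [show N = ⊤ from eq_top_iff.mpr fun g _ => h g, Subgroup.index_top] at hidx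
    exact hp.ne_one hidx.symm
  have hQ : Nat.card (G ⧸ N) = p := hidx
  have hgen : ∀ q : G ⧸ N, q ∈ Subgroup.zpowers (s₁ : G ⧸ N) :=
    fun q => mem_zpowers_of_prime_card hQ (fun h => hs₁ ((QuotientGroup.eq_one_iff s₁).mp h))
  have hord : orderOf (s₁ : G ⧸ N) = p := by
    rw [orderOf_eq_card_of_forall_mem_zpowers hgen, hQ]
  have hπ : ∀ g : G, ∃ b : ZMod p, (g : G ⧸ N) = ((s₁ ^ b.val : G) : G ⧸ N) := by
    intro g
    obtain ⟨k, hk⟩ := Subgroup.mem_zpowers_iff.mp (hgen (g : G ⧸ N))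
    refine ⟨(k : ZMod p), ?_⟩
    rw [← hk, QuotientGroup.mk_pow, ← zpow_natCast, ZMod.val_intCast, ← hord, zpow_mod_orderOf]
  choose π hπ using hπ
  have hpowinj : ∀ b c : ZMod p, ((s₁ ^ b.val : G) : G ⧸ N) = ((s₁ ^ c.val : G) : G ⧸ N) → b = c := by
    intro b c h
    rw [QuotientGroup.mk_pow, QuotientGroup.mk_pow] at h
    exact ZMod.val_injective p (pow_injOn_Iio_orderOf
      (by rw [Set.mem_Iio, hord]; exact ZMod.val_lt b)
      (by rw [Set.mem_Iio, hord]; exact ZMod.val_lt c) h)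
  have hsadd : ∀ b c : ZMod p,
      ((s₁ ^ (b + c).val : G) : G ⧸ N) = ((s₁ ^ b.val : G) : G ⧸ N) * ((s₁ ^ c.val : G) : G ⧸ N) := by
    intro b c
    simp only [QuotientGroup.mk_pow]
    rw [← pow_add, ZMod.val_add]
    conv_rhs => rw [← pow_mod_orderOf, hord]
  have hπmul : ∀ g g' : G, π (g * g') = π g + π g' := fun g g' => hpowinj _ _ (by
    rw [← hπ, hsadd, ← hπ, ← hπ, QuotientGroup.mk_mul])
  have hnmem : ∀ (g : G) (i : ZMod p), s₁ ^ i.val * g * (s₁ ^ (i + π g).val)⁻¹ ∈ N := by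
    intro g i
    rw [← QuotientGroup.eq_one_iff, QuotientGroup.mk_mul, QuotientGroup.mk_mul,
      QuotientGroup.mk_inv, hsadd, ← hπ, mul_inv_eq_one]
  let c : G → ZMod p → N := fun g i => ⟨_, hnmem g i⟩
  have hc : ∀ g g' i, c (g * g') i = c g i * c g' (i + π g) := fun g g' i => Subtype.ext (by
    simp only [c, Subgroup.coe_mul, hπmul, add_assoc]
    group)
  let Φ : G → Tw H₀ p := fun g => ⟨fun i => (f₀ (c g i)).out, 0, 0, π g⟩
  let f : G →* H ⧸ Subgroup.center H := MonoidHom.mk' (fun g => F (Φ g)) fun g g' => by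
    rw [← map_mul, ← inv_mul_eq_one, ← map_inv, ← map_mul, ← MonoidHom.mem_ker, hF]
    have hid : ∀ i, ((f₀ (c (g * g') i)).out : H₀ ⧸ Subgroup.center H₀) =
        (((f₀ (c g i)).out * (f₀ (c g' (i + π g))).out : H₀) : H₀ ⧸ Subgroup.center H₀) := fun i => by
      rw [QuotientGroup.mk_mul, QuotientGroup.out_eq', QuotientGroup.out_eq', QuotientGroup.out_eq',
        hc, map_mul]
    refine ⟨fun i => ?_, ?_, ?_⟩
    · have h := QuotientGroup.eq.mp (hid (i - π (g * g')))
      simpa [Φ, Tw.mul_def, Tw.inv_def, sub_eq_add_neg, add_assoc] using h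
    · simp [Φ, Tw.mul_def, Tw.inv_def]
    · simp [Φ, Tw.mul_def, Tw.inv_def, hπmul]
  refine ⟨H, iG, iF, ψ, hψf, hψsq, ⟨f, ?_⟩, fun q hq => ?_, hψsf⟩
  · rw [injective_iff_map_eq_one]
    intro g hg
    have hmem : Φ g ∈ Tw.zSub H₀ p := by rw [← hF]; exact hg
    obtain ⟨hmc, -, hmb⟩ := hmem
    have h1 : c g 0 = 1 := hf₀ (by
      rw [map_one, ← QuotientGroup.out_eq' (f₀ (c g 0)), QuotientGroup.eq_one_iff]
      exact hmc 0)
    have h2 := congrArg Subtype.val h1
    simp only [c, OneMemClass.coe_one, show π g = 0 from hmb, add_zero, ZMod.val_zero, pow_zero,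
      one_mul, inv_one, mul_one] at h2
    exact h2
  · have hG : q ∣ Nat.card G ↔ (q ∣ Nat.card N ∨ q = p) := by
      rw [← N.card_mul_index, hidx, hq.dvd_mul, Nat.prime_dvd_prime_iff_eq hq hp]
    have hcen : q ∣ Nat.card (Subgroup.center H) ↔ q ∣ Nat.card G := by
      rw [hG]
      constructor
      · intro h
        rcases hq.dvd_mul.mp (h.trans (hL.trans (Nat.lcm_dvd_mul _ _))) with h' | h'
        · exact Or.inl ((hpr q hq).2.mp h')
        · exact Or.inr ((Nat.prime_dvd_prime_iff_eq hq hp).mp h')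
      · rintro (h' | rfl)
        · exact ((hpr q hq).2.mpr h').trans h0
        · exact hp'
    refine ⟨⟨fun h => ?_, fun h => (hcen.mpr h).trans (Subgroup.card_subgroup_dvd_card _)⟩, hcen⟩
    rw [← (Subgroup.center H).card_mul_index, hq.dvd_mul] at h
    rcases h with h | h
    · exact hcen.mp h
    rw [← hψsq, hψd] at h
    rw [hG]
    rcases hq.dvd_mul.mp (hq.dvd_of_dvd_pow h) with h' | h'
    · exact Or.inr ((Nat.prime_dvd_prime_iff_eq hq hp).mp h')
    · refine Or.inl ((hpr q hq).1.mp ?_)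
      exact ((hq.dvd_of_dvd_pow h').trans (dvd_pow_self _ two_ne_zero)).trans
        (hsq ▸ Subgroup.index_dvd_card _)

end CfsgLib.FullyRamified
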