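import Cfsg.Agent.Lib.Char.FullyRamified.Basic
import Cfsg.Agent.Lib.LocalEven.PClosed

/-!
# Complements of Sylow subgroups of quotients of groups of central type
-/

namespace CfsgLib.FullyRamified

open CfsgLib.Char CfsgLib.CharDegree CfsgLib.Clifford
open scoped Classical ComplexConjugate

variable {H : Type*} [Group H] [Fintype H]

/-- Hypothesis: `χ` restricted to `Z` is `e • θ`, and `e ^ 2` is the index of `Z`. -/
structure Data (Z : Subgroup H) (χ : Cfsg.IrrCharacter H) where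
  θ : Cfsg.IrrCharacter Z
  e : ℕ
  sq : e ^ 2 = Z.index
  res : ∀ z : Z, (χ : H → ℂ) z = (e : ℂ) * (θ : Z → ℂ) z

variable {Z : Subgroup H} {χ : Cfsg.IrrCharacter H}

theorem Data.e_pos (D : Data Z χ) : 0 < D.e :=
  Nat.pos_of_ne_zero fun h => Subgroup.index_ne_zero_of_finite (H := Z) (by rw [← D.sq, h]; rfl)

theorem Data.vanish (D : Data Z χ) : ∀ x, x ∉ Z → (χ : H → ℂ) x = 0 := by
  have := Fintype.ofFinite Z
  exact (sq_le_and_vanish χ D.e D.res).2 D.sq

/-- Restriction to a subgroup containing `Z` and a Sylow `p`-subgroup. -/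
theorem exists_sylow_char [Z.Normal] (D : Data Z χ) {p : ℕ} [hp : Fact p.Prime] (S : Sylow p H)
    (U : Subgroup H) (hU : U = (S : Subgroup H) ⊔ Z) [Fintype U] [Fintype (Z.subgroupOf U)] :
    ∃ (ψ : Cfsg.IrrCharacter U) (θ' : Cfsg.IrrCharacter (Z.subgroupOf U)) (c e' : ℕ),
      D.e = p ^ c * e' ∧ ¬ p ∣ e' ∧ (Z.subgroupOf U).index = p ^ (2 * c) ∧
      (∀ z : Z.subgroupOf U, (ψ : U → ℂ) z = (p ^ c : ℕ) * (θ' : Z.subgroupOf U → ℂ) z) ∧
      (∀ x : U, x ∉ Z.subgroupOf U → (ψ : U → ℂ) x = 0) ∧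
      (∀ x : U, (χ : H → ℂ) x = (e' : ℂ) * (ψ : U → ℂ) x) ∧
      (∀ (z : Z.subgroupOf U) (hz : ((z : U) : H) ∈ Z),
        (θ' : Z.subgroupOf U → ℂ) z = (D.θ : Z → ℂ) ⟨_, hz⟩) := by
  have := Fintype.ofFinite Z
  have hZU : Z ≤ U := hU ▸ le_sup_right
  have hSU : (S : Subgroup H) ≤ U := hU ▸ le_sup_left
  let ε : Z.subgroupOf U ≃* Z := Subgroup.subgroupOfEquivOfLe hZU
  let θ' : Cfsg.IrrCharacter (Z.subgroupOf U) :=
    ⟨fun z => (D.θ : Z → ℂ) (ε z), IsIrr.comp_surjective ε.toMonoidHom ε.surjective D.θ.2⟩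
  have hr : ∀ z : Z.subgroupOf U, (χ : H → ℂ) ((z : U) : H) = D.e * (θ' : Z.subgroupOf U → ℂ) z :=
    fun z => D.res (ε z)
  have hv : ∀ x : U, x ∉ Z.subgroupOf U → (χ : H → ℂ) x = 0 :=
    fun x hx => D.vanish x fun h => hx (Subgroup.mem_subgroupOf.mpr h)
  -- the index
  obtain ⟨j, hj⟩ : ∃ j, (Z.subgroupOf U).index = p ^ j := by
    obtain ⟨n, hn⟩ := IsPGroup.iff_card.mp S.2
    have h1 : (Z.subgroupOf U).index ∣ p ^ n := by
      show Z.relIndex U ∣ _
      rw [hU, Subgroup.relIndex_sup_right, ← hn]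
      exact (Z.subgroupOf (S : Subgroup H)).index_dvd_card
    exact ((Nat.dvd_prime_pow hp.out).mp h1).imp fun j hj => hj.2
  have hsq : p ^ j * U.index = D.e ^ 2 := by
    rw [D.sq, ← hj]; exact Subgroup.relIndex_mul_index hZU
  have hUp : ¬ p ∣ U.index := fun h => S.not_dvd_index (h.trans (Subgroup.index_dvd_of_le hSU))
  obtain ⟨c, e', hpe', hee'⟩ := Nat.exists_eq_pow_mul_and_not_dvd D.e_pos.ne' p hp.out.ne_one
  have hjc : j = 2 * c := by
    have h := congrArg (fun n : ℕ => n.factorization p) hsq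
    simp only [hee', Nat.factorization_mul (pow_ne_zero _ hp.out.ne_zero)
      (Subgroup.index_ne_zero_of_finite (H := U)), Nat.factorization_pow, Finsupp.coe_add,
      Pi.add_apply, Finsupp.coe_smul, Pi.smul_apply, hp.out.factorization_self,
      Nat.factorization_eq_zero_of_not_dvd hUp, smul_eq_mul, mul_one, add_zero] at h
    rw [Nat.factorization_mul (pow_ne_zero _ hp.out.ne_zero)
      (show e' ≠ 0 from fun h0 => hpe' (h0 ▸ dvd_zero p))] at h
    simpa [Nat.factorization_pow, hp.out.factorization_self,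
      Nat.factorization_eq_zero_of_not_dvd hpe'] using h
  subst hjc
  -- a constituent
  have hχU : Cfsg.IsCharacter U fun x : U => (χ : H → ℂ) x := IsChar.restrict U (IsIrr.isCharacter χ.2)
  obtain ⟨ψ, hψ⟩ := exists_constituent (IsChar.isClassFunction hχU) fun h =>
    IsIrr.apply_one_ne_zero χ.2 (congrFun h 1)
  obtain ⟨a, ha, haz⟩ := exists_mult (θ := θ') hχU hr ψ hψ
  obtain ⟨k, hk⟩ := IsChar.classInner_eq_natCast hχU (IsIrr.isCharacter ψ.2)
  have hkey : k * p ^ (2 * c) = D.e * a := by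
    have h := pairing (θ := θ') hv hr (ψ : U → ℂ)
    rw [hk, show (fun z : Z.subgroupOf U => (ψ : U → ℂ) z) =
      (a : ℂ) • (θ' : Z.subgroupOf U → ℂ) from funext haz, classInner_smul_right,
      classInner_irr_self, Complex.conj_natCast, mul_one, ← (Z.subgroupOf U).card_mul_index] at h
    have h' : Nat.card (Z.subgroupOf U) * (Z.subgroupOf U).index * k =
        D.e * Nat.card (Z.subgroupOf U) * a := by exact_mod_cast h
    rw [hj] at h'
    refine Nat.eq_of_mul_eq_mul_left (Nat.card_pos (α := Z.subgroupOf U)) ?_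
    calc _ = Nat.card (Z.subgroupOf U) * p ^ (2 * c) * k := by ring
      _ = _ := by rw [h']; ring
  obtain ⟨hle, hvan⟩ := sq_le_and_vanish ψ a haz
  rw [hj] at hle hvan
  have hdvd : p ^ c ∣ a := by
    have h1 : p ^ c ∣ e' * a := by
      refine ⟨k, Nat.eq_of_mul_eq_mul_left (pow_pos hp.out.pos c) ?_⟩
      rw [← mul_assoc, ← hee', ← hkey, two_mul, pow_add]; ring
    exact ((hp.out.coprime_iff_not_dvd.mpr hpe').pow_left c).dvd_of_dvd_mul_left h1
  have hac : a = p ^ c := by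
    refine le_antisymm ?_ (Nat.le_of_dvd ha hdvd)
    rw [mul_comm 2 c, pow_mul] at hle
    exact (Nat.pow_le_pow_iff_left two_ne_zero).mp hle
  subst hac
  have hv' := hvan (by rw [← pow_mul, mul_comm])
  refine ⟨ψ, θ', c, e', hee', hpe', hj, haz, hv', fun x => ?_, fun z hz => rfl⟩
  by_cases hx : x ∈ Z.subgroupOf U
  · rw [hr ⟨x, hx⟩, haz ⟨x, hx⟩, hee']
    push_cast
    ring
  · rw [hv x hx, hv' x hx, mul_zero]

/-- A Sylow subgroup of `H / K` has a complement when a character of `U ⊓ K` over `θ` has trivial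
inertia in `U`, where `U` is the product of a Sylow subgroup of `H` with `Z`. -/
theorem exists_complement [Z.Normal] (D : Data Z χ) (K : Subgroup H) [hK : K.Normal]
    (hZK : Z ≤ K) {p : ℕ} [hp : Fact p.Prime] (S : Sylow p H) (U : Subgroup H)
    (hU : U = (S : Subgroup H) ⊔ Z) [Fintype U] [Fintype (K.subgroupOf U)]
    (η : Cfsg.IrrCharacter (K.subgroupOf U))
    (hη : Cfsg.classInner (fun l : K.subgroupOf U => (χ : H → ℂ) ((l : U) : H))
      (η : K.subgroupOf U → ℂ) ≠ 0)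
    (hin : inertia (inferInstance : (K.subgroupOf U).Normal) (η : K.subgroupOf U → ℂ) ≤
      K.subgroupOf U) :
    ∃ M : Subgroup (H ⧸ K), M.IsComplement' ((S : Subgroup H).map (QuotientGroup.mk' K)) := by
  have := Fintype.ofFinite (Z.subgroupOf U)
  have hZU : Z ≤ U := hU ▸ le_sup_right
  have hSU : (S : Subgroup H) ≤ U := hU ▸ le_sup_left
  obtain ⟨ψ, θ', c, e', hee', hpe', hidx, hψr, hψv, hχψ, -⟩ := exists_sylow_char D S U hU
  have he' : (e' : ℂ) ≠ 0 := Nat.cast_ne_zero.mpr fun h => hpe' (h ▸ dvd_zero p)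
  have hscale : ∀ η' : Cfsg.IrrCharacter (K.subgroupOf U),
      Cfsg.classInner (fun l : K.subgroupOf U => (χ : H → ℂ) ((l : U) : H))
        (η' : K.subgroupOf U → ℂ) ≠ 0 →
      Cfsg.classInner (fun l : K.subgroupOf U => (ψ : U → ℂ) l)
        (η' : K.subgroupOf U → ℂ) ≠ 0 := fun η' h h0 => h (by
    rw [show (fun l : K.subgroupOf U => (χ : H → ℂ) ((l : U) : H)) =
      (e' : ℂ) • fun l : K.subgroupOf U => (ψ : U → ℂ) l from funext fun l => hχψ l,
      classInner_smul_left, h0, mul_zero])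
  have htrans := (restrict_normal (θ := θ') (A := K.subgroupOf U)
    (fun z hz => Subgroup.mem_subgroupOf.mpr (hZK (Subgroup.mem_subgroupOf.mp hz)))
    hψv hψr η (hscale η hη)).2
  -- `η` as a function on `H`
  let F : H → ℂ := fun x => if h : x ∈ U ⊓ K then
    (η : K.subgroupOf U → ℂ) ⟨⟨x, h.1⟩, Subgroup.mem_subgroupOf.mpr h.2⟩ else 0
  have hF : ∀ l : K.subgroupOf U, F ((l : U) : H) = (η : K.subgroupOf U → ℂ) l := fun l => by
    have h : ((l : U) : H) ∈ U ⊓ K := ⟨(l : U).2, Subgroup.mem_subgroupOf.mp l.2⟩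
    simp only [F, dif_pos h]
  set N : Subgroup H := Subgroup.normalizer ((U ⊓ K : Subgroup H) : Set H) with hN
  let T : Subgroup H :=
    { carrier := {g | g ∈ N ∧ ∀ x, F (g * x * g⁻¹) = F x}
      one_mem' := ⟨N.one_mem, fun x => by simp⟩
      mul_mem' := fun {g h} hg hh => ⟨N.mul_mem hg.1 hh.1, fun x => by
        rw [show g * h * x * (g * h)⁻¹ = g * (h * x * h⁻¹) * g⁻¹ by group, hg.2, hh.2]⟩
      inv_mem' := fun {g} hg => ⟨N.inv_mem hg.1, fun x => by
        conv_rhs => rw [show x = g * (g⁻¹ * x * g⁻¹⁻¹) * g⁻¹ by group, hg.2]⟩ }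
  have hUN : U ≤ N := by
    intro u hu
    rw [hN, Subgroup.mem_normalizer_iff]
    intro x
    constructor
    · exact fun hx => ⟨U.mul_mem (U.mul_mem hu hx.1) (U.inv_mem hu), hK.conj_mem x hx.2 u⟩
    · intro hx
      have h1 := U.mul_mem (U.mul_mem (U.inv_mem hu) hx.1) hu
      have h2 := hK.conj_mem _ hx.2 u⁻¹
      refine ⟨?_, ?_⟩
      · rwa [show u⁻¹ * (u * x * u⁻¹) * u = x by group] at h1
      · rwa [show u⁻¹ * (u * x * u⁻¹) * u⁻¹⁻¹ = x by group] at h2
  -- transitivity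
  have hdec : ∀ n ∈ N, ∃ g ∈ T, ∃ u ∈ U, n = g * u := by
    intro n hn
    have hmem : ∀ l : K.subgroupOf U, n * ((l : U) : H) * n⁻¹ ∈ U ⊓ K := fun l =>
      (Subgroup.mem_normalizer_iff.mp hn _).mp ⟨(l : U).2, Subgroup.mem_subgroupOf.mp l.2⟩
    let φn : K.subgroupOf U →* K.subgroupOf U :=
      { toFun := fun l => ⟨⟨_, (hmem l).1⟩, Subgroup.mem_subgroupOf.mpr (hmem l).2⟩
        map_one' := Subtype.ext (Subtype.ext (by simp))
        map_mul' := fun a b => Subtype.ext (Subtype.ext (by simp [mul_assoc])) }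
    have hbij : Function.Bijective φn := Finite.injective_iff_bijective.mp fun a b h =>
      Subtype.ext (Subtype.ext (mul_right_injective n (mul_left_injective n⁻¹
        (congrArg (fun w : K.subgroupOf U => ((w : U) : H)) h))))
    let η' : Cfsg.IrrCharacter (K.subgroupOf U) :=
      ⟨fun l => (η : K.subgroupOf U → ℂ) (φn l), IsIrr.comp_surjective φn hbij.2 η.2⟩
    have hη' : Cfsg.classInner (fun l : K.subgroupOf U => (χ : H → ℂ) ((l : U) : H))
        (η' : K.subgroupOf U → ℂ) ≠ 0 := by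
      intro h
      apply hη
      rw [← classInner_comp_equiv (MulEquiv.ofBijective φn hbij)]
      rw [← h]
      congr 1
      funext l
      exact IsIrr.isClassFunction χ.2 _ _
    obtain ⟨u, hu⟩ := htrans η' (hscale η' hη')
    refine ⟨n * (u : H)⁻¹, ⟨N.mul_mem hn (N.inv_mem (hUN u.2)), fun x => ?_⟩, u, u.2, by group⟩
    have hiff : ∀ g ∈ N, ∀ y : H, g * y * g⁻¹ ∈ U ⊓ K ↔ y ∈ U ⊓ K := fun g hg y =>
      (Subgroup.mem_normalizer_iff.mp hg y).symm
    have hmemN : n * (u : H)⁻¹ ∈ N := N.mul_mem hn (N.inv_mem (hUN u.2))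
    by_cases hx : x ∈ U ⊓ K
    · set y := (u : H)⁻¹ * x * (u : H)⁻¹⁻¹ with hy
      have hyL : y ∈ U ⊓ K := (hiff _ (N.inv_mem (hUN u.2)) x).mpr hx
      let l : K.subgroupOf U := ⟨⟨y, hyL.1⟩, Subgroup.mem_subgroupOf.mpr hyL.2⟩
      have h := congrFun hu l
      rw [conjFn_apply] at h
      change (η : K.subgroupOf U → ℂ) (φn l) = _ at h
      rw [← hF, ← hF] at h
      have e1 : ((φn l : U) : H) = n * (u : H)⁻¹ * x * (n * (u : H)⁻¹)⁻¹ := by
        show n * y * n⁻¹ = _
        rw [hy]; group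
      rw [e1] at h
      rw [h]
      congr 1
      show (u : H) * y * (u : H)⁻¹ = x
      rw [hy]; group
    · simp only [F, dif_neg hx, dif_neg (fun h => hx ((hiff _ hmemN x).mp h))]
  have hUT : U ⊓ T = U ⊓ K := by
    apply le_antisymm
    · intro u hu
      have h : (⟨u, hu.1⟩ : U) ∈
          inertia (inferInstance : (K.subgroupOf U).Normal) (η : K.subgroupOf U → ℂ) :=
        mem_inertia.mpr (funext fun l => by
          rw [conjFn_apply, ← hF, ← hF]
          exact hu.2.2 _)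
      exact ⟨hu.1, Subgroup.mem_subgroupOf.mp (hin h)⟩
    · intro l hl
      refine ⟨hl.1, hUN hl.1, fun x => ?_⟩
      by_cases hx : x ∈ U ⊓ K
      · have h := le_inertia (inferInstance : (K.subgroupOf U).Normal)
          (IsIrr.isClassFunction η.2) (show (⟨l, hl.1⟩ : U) ∈ K.subgroupOf U from
            Subgroup.mem_subgroupOf.mpr hl.2)
        have h' := congrFun (mem_inertia.mp h) ⟨⟨x, hx.1⟩, Subgroup.mem_subgroupOf.mpr hx.2⟩
        rw [conjFn_apply, ← hF, ← hF] at h'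
        exact h'
      · have hn := hUN hl.1
        simp only [F, dif_neg hx,
          dif_neg (fun h => hx ((Subgroup.mem_normalizer_iff.mp hn x).mpr h))]
  -- Frattini
  have hNK : ∀ h : H, ∃ n ∈ N, ∃ k ∈ K, h = n * k := by
    obtain ⟨Q, hQ⟩ := CfsgLib.LocalEven.exists_sylow_inf S K
    have htop := Sylow.normalizer_sup_eq_top Q
    rw [hQ] at htop
    have hL : U ⊓ K = ((S : Subgroup H) ⊓ K) ⊔ Z := by
      refine le_antisymm (fun x hx => ?_) (sup_le (inf_le_inf_right K hSU) (le_inf hZU hZK))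
      have hx1 : x ∈ (S : Subgroup H) ⊔ Z := hU ▸ hx.1
      obtain ⟨s, hs, z, hz, rfl⟩ := Subgroup.mem_sup_of_normal_right.mp hx1
      exact Subgroup.mul_mem_sup ⟨hs, by simpa using K.mul_mem hx.2 (K.inv_mem (hZK hz))⟩ hz
    have hle : Subgroup.normalizer (((S : Subgroup H) ⊓ K : Subgroup H) : Set H) ≤ N := by
      intro g hg
      rw [hN, Subgroup.mem_normalizer_iff_map_conj_eq, hL, Subgroup.map_sup,
        Subgroup.mem_normalizer_iff_map_conj_eq.mp hg]
      congr 1
      exact Subgroup.mem_normalizer_iff_map_conj_eq.mp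
        (by rw [Subgroup.normalizer_eq_top]; exact Subgroup.mem_top g)
    intro h
    have hh : h ∈ Subgroup.normalizer (((S : Subgroup H) ⊓ K : Subgroup H) : Set H) ⊔ K := by
      rw [htop]; exact Subgroup.mem_top h
    obtain ⟨n, hn, k, hk, rfl⟩ := Subgroup.mem_sup_of_normal_right.mp hh
    exact ⟨n, hle hn, k, hk, rfl⟩
  -- orders
  have hTN : T ≤ N := fun g hg => hg.1
  have hcop : ¬ p ∣ U.relIndex T := by
    have horb : MulAction.orbit T ((1 : H) : H ⧸ U) = MulAction.orbit N ((1 : H) : H ⧸ U) := by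
      refine Set.Subset.antisymm ?_ ?_
      · rintro _ ⟨t, rfl⟩
        exact ⟨⟨t, hTN t.2⟩, rfl⟩
      · rintro _ ⟨n, rfl⟩
        obtain ⟨g, hg, u, hu, hgu⟩ := hdec n n.2
        refine ⟨⟨g, hg⟩, ?_⟩
        show ((g * 1 : H) : H ⧸ U) = (((n : H) * 1 : H) : H ⧸ U)
        rw [mul_one, mul_one, hgu, QuotientGroup.eq]
        rwa [inv_mul_cancel_left]
    have hst : ∀ W : Subgroup H, MulAction.stabilizer W ((1 : H) : H ⧸ U) = U.subgroupOf W := by
      intro W
      ext w
      rw [MulAction.mem_stabilizer_iff, Subgroup.mem_subgroupOf]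
      show (((w : H) * 1 : H) : H ⧸ U) = _ ↔ _
      rw [mul_one, QuotientGroup.eq, mul_one, inv_mem_iff]
    have e1 : U.relIndex T = U.relIndex N := by
      show (U.subgroupOf T).index = (U.subgroupOf N).index
      rw [← hst, ← hst, MulAction.index_stabilizer, MulAction.index_stabilizer, horb]
    rw [e1]
    exact fun h => S.not_dvd_index ((h.trans (Subgroup.relIndex_dvd_index_of_le hUN)).trans
      (Subgroup.index_dvd_of_le hSU))
  -- the image of `T`
  set P₀ := (S : Subgroup H).map (QuotientGroup.mk' K) with hP₀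
  refine ⟨T.map (QuotientGroup.mk' K), Subgroup.isComplement'_of_disjoint_and_mul_eq_univ ?_ ?_⟩
  · obtain ⟨n, hn⟩ := IsPGroup.iff_card.mp ((S.2.map (QuotientGroup.mk' K)) : IsPGroup p P₀)
    refine Disjoint.mono_right le_rfl (disjoint_iff.mpr (disjoint_iff.mp (Subgroup.disjoint_of_coprime_natCard ?_)))
    rw [hn]
    refine Nat.Coprime.pow_right n ((hp.out.coprime_iff_not_dvd.mpr fun hd => hcop ?_).symm)
    refine hd.trans ?_
    have h1 : Nat.card (T.map (QuotientGroup.mk' K)) = K.relIndex T := by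
      rw [show T.map (QuotientGroup.mk' K) = ((QuotientGroup.mk' K).comp T.subtype).range by
        rw [MonoidHom.range_comp, Subgroup.range_subtype], ← Subgroup.index_ker]
      congr 1
      ext t
      exact QuotientGroup.eq_one_iff (t : H)
    rw [h1]
    have h2 : (U ⊓ T).subgroupOf T ≤ K.subgroupOf T := fun t ht =>
      Subgroup.mem_subgroupOf.mpr (by
        have h3 := Subgroup.mem_subgroupOf.mp ht
        rw [hUT] at h3
        exact h3.2)
    have h3 := Subgroup.index_dvd_of_le h2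
    rwa [Subgroup.inf_subgroupOf_right] at h3
  · refine Set.eq_univ_of_forall fun q => ?_
    obtain ⟨h, rfl⟩ := QuotientGroup.mk_surjective q
    obtain ⟨n, hn, k, hk, rfl⟩ := hNK h
    obtain ⟨g, hg, u, hu, rfl⟩ := hdec n hn
    have hu' : u ∈ (S : Subgroup H) ⊔ Z := hU ▸ hu
    obtain ⟨s, hs, z, hz, rfl⟩ := Subgroup.mem_sup_of_normal_right.mp hu'
    refine ⟨(g : H ⧸ K), ⟨g, hg, rfl⟩, (s : H ⧸ K), ⟨s, hs, rfl⟩, ?_⟩
    show (g : H ⧸ K) * (s : H ⧸ K) = _
    rw [← QuotientGroup.mk_mul, QuotientGroup.eq]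
    rw [show (g * s)⁻¹ * (g * (s * z) * k) = z * k by group]
    exact K.mul_mem (hZK hz) hk

end CfsgLib.FullyRamified
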