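import Cfsg.Agent.Lib.Char.FullyRamified.Complement
import Cfsg.Agent.Lib.CharDegree.CyclicExtend
import Cfsg.Agent.Lib.Char.FieldDegree

/-!
# Groups of central type: cyclic quotients and induced characters
-/

namespace CfsgLib.FullyRamified

open CfsgLib.Char CfsgLib.CharDegree CfsgLib.Clifford
open scoped Classical ComplexConjugate

section Abstract

variable {B : Type*} [Group B] [Fintype B] {Z : Subgroup B} [Fintype Z] {θ : Cfsg.IrrCharacter Z}
  {A : Subgroup B} [hA : A.Normal] [Fintype A] {ψ : Cfsg.IrrCharacter B} {a : ℕ}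

omit [Fintype Z] [Fintype A] in
/-- If the multiplicity is `1`, the inertia group is the normal subgroup. -/
theorem inertia_le_of_mult_one (η : Cfsg.IrrCharacter A) {b : ℕ}
    (ha : a ^ 2 = Z.index) (h1 : (inertia hA (η : A → ℂ)).index * b = a)
    (h2 : Nat.card A = a * b * Nat.card Z) : inertia hA (η : A → ℂ) ≤ A := by
  have hle := le_inertia hA (IsIrr.isClassFunction η.2)
  have hB : Nat.card A * A.index = Nat.card A * (inertia hA (η : A → ℂ)).index := by
    rw [A.card_mul_index, ← Z.card_mul_index, ← ha, h2]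
    calc Nat.card Z * a ^ 2 = a * (a * Nat.card Z) := by ring
      _ = a * ((inertia hA (η : A → ℂ)).index * b * Nat.card Z) := by rw [h1]
      _ = a * b * Nat.card Z * (inertia hA (η : A → ℂ)).index := by ring
  have hidx := Nat.eq_of_mul_eq_mul_left Nat.card_pos hB
  rcases hle.eq_or_lt with h | h
  · exact h.ge
  · exact absurd hidx (Subgroup.index_strictAnti h).ne'

/-- With a cyclic quotient the inertia group is the normal subgroup. -/
theorem inertia_le_of_cyclic (hZA : Z ≤ A) [Z.Normal]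
    (hv : ∀ x, x ∉ Z → (ψ : B → ℂ) x = 0) (hr : ∀ z : Z, (ψ : B → ℂ) z = a * (θ : Z → ℂ) z)
    (ha : a ^ 2 = Z.index) (hcyc : IsCyclic (B ⧸ A)) (η : Cfsg.IrrCharacter A)
    (hη : Cfsg.classInner (fun x : A => (ψ : B → ℂ) x) (η : A → ℂ) ≠ 0) :
    inertia hA (η : A → ℂ) ≤ A := by
  obtain ⟨⟨b, m, hb, hbz, hm, hcard⟩, -⟩ := restrict_normal hZA hv hr η hη
  have ha0 : a ≠ 0 := fun h => Subgroup.index_ne_zero_of_finite (H := Z) (by rw [← ha, h]; rfl)
  set T := inertia hA (η : A → ℂ) with hTd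
  have hle : A ≤ T := le_inertia hA (IsIrr.isClassFunction η.2)
  have := Fintype.ofFinite T
  let e : A.subgroupOf T ≃* A := Subgroup.subgroupOfEquivOfLe hle
  let η' : Cfsg.IrrCharacter (A.subgroupOf T) :=
    ⟨fun c => (η : A → ℂ) (e c), IsIrr.comp_surjective e.toMonoidHom e.surjective η.2⟩
  obtain ⟨n, σ, hσ, hσc⟩ := η'.2
  have hcycT : IsCyclic (T ⧸ A.subgroupOf T) := by
    refine isCyclic_of_injective (QuotientGroup.map (A.subgroupOf T) A T.subtype
      (show A.subgroupOf T ≤ A.comap T.subtype from le_rfl)) ?_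
    rw [injective_iff_map_eq_one]
    intro q
    induction q using QuotientGroup.induction_on with
    | H x =>
      intro hx
      change ((x : B) : B ⧸ A) = 1 at hx
      rw [QuotientGroup.eq_one_iff] at hx
      exact (QuotientGroup.eq_one_iff x).mpr (Subgroup.mem_subgroupOf.mpr hx)
  obtain ⟨ρ, hρ⟩ := exists_extension_of_cyclic σ (fun g c => by
    rw [hσc]
    exact (congrArg (η : A → ℂ) (Subtype.ext rfl)).trans (congrFun g.2 (e c))) hcycT
  have hirr : Cfsg.IsIrrCharacter T ρ.character := by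
    have := CharExt.isIrreducible_of_restrict ρ (A.subgroupOf T).subtype σ hρ
    exact isIrrCharacter_rep ρ
  have hres : resTo hle ρ.character = (η : A → ℂ) := funext fun c =>
    (congrArg (LinearMap.trace ℂ _) (hρ (e.symm c))).trans
      ((congrFun hσc (e.symm c)).trans (congrArg (η : A → ℂ) (e.apply_symm_apply c)))
  have hc : Cfsg.classInner (resTo hle ρ.character) (η : A → ℂ) ≠ 0 := by
    rw [hres, classInner_irr_self]; exact one_ne_zero
  have hind : Cfsg.IsIrrCharacter B (Cfsg.indFun T ρ.character) :=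
    isIrr_indFun_of_over hA η.2 (fun g => mem_inertia) hle hirr hc
  let ψ' : Cfsg.IrrCharacter B := ⟨_, hind⟩
  have h1 : (ψ' : B → ℂ) 1 = (T.index : ℂ) * (η : A → ℂ) 1 := by
    show Cfsg.indFun T ρ.character 1 = _
    rw [indFun_apply_one, ← congrFun hres 1]
    rfl
  have hover : Cfsg.classInner (fun x : A => (ψ' : B → ℂ) x) (η : A → ℂ) ≠ 0 := by
    show Cfsg.classInner (fun x : A => Cfsg.indFun T ρ.character x) (η : A → ℂ) ≠ 0
    rw [classInner_restrict_indFun hA η.2 (fun g => mem_inertia) hle hirr hc, hres,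
      classInner_irr_self]
    exact one_ne_zero
  -- `θ` is invariant
  have hθinv : ∀ (g : B) (z : Z), (θ : Z → ℂ) ⟨g * z * g⁻¹, (inferInstance : Z.Normal).conj_mem z z.2 g⟩ =
      (θ : Z → ℂ) z := fun g z => by
    refine mul_left_cancel₀ (Nat.cast_ne_zero.mpr ha0 : (a : ℂ) ≠ 0) ?_
    rw [← hr, ← hr]
    exact IsIrr.isClassFunction ψ.2 _ _
  obtain ⟨k, hk⟩ : ∃ k : ℂ, ∀ z : Z, (ψ' : B → ℂ) z = k * (θ : Z → ℂ) z := by
    refine ⟨Cfsg.classInner (fun x : A => (ψ' : B → ℂ) x) (η : A → ℂ) *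
      ((Finset.univ.image (conjFn hA (η : A → ℂ))).card * b), fun z => ?_⟩
    have h := congrFun (restrict_eq_smul_orbit_sum hA ψ'.2 η.2 hover) ⟨z, hZA z.2⟩
    simp only [Pi.smul_apply, Finset.sum_apply, smul_eq_mul] at h
    rw [h, Finset.sum_congr rfl (g := fun _ => (b : ℂ) * (θ : Z → ℂ) z) fun f hf => ?_,
      Finset.sum_const, nsmul_eq_mul]
    · ring
    · obtain ⟨g, -, rfl⟩ := Finset.mem_image.mp hf
      rw [conjFn_apply, ← hθinv g z]
      exact hbz ⟨g * z * g⁻¹, (inferInstance : Z.Normal).conj_mem z z.2 g⟩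
  have hk0 : k ≠ 0 := fun h => IsIrr.apply_one_ne_zero ψ'.2 (by
    have := hk 1
    rw [h, zero_mul] at this
    exact this)
  have hne : Cfsg.classInner (ψ : B → ℂ) (ψ' : B → ℂ) ≠ 0 := by
    intro h0
    have h := pairing (θ := θ) hv hr (ψ' : B → ℂ)
    rw [h0, mul_zero, show (fun z : Z => (ψ' : B → ℂ) z) = k • (θ : Z → ℂ) from funext hk,
      classInner_smul_right, classInner_irr_self, mul_one] at h
    exact mul_ne_zero (mul_ne_zero (Nat.cast_ne_zero.mpr ha0) (Nat.cast_ne_zero.mpr Nat.card_pos.ne'))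
      ((map_ne_zero (starRingEnd ℂ)).mpr hk0) h.symm
  have heq : ψ = ψ' := by
    by_contra h
    exact hne (by rw [classInner_irr, if_neg h])
  have hd : T.index * b = a := by
    have h2 : (η : A → ℂ) 1 = b * (θ : Z → ℂ) 1 := hbz 1
    rw [← heq, show (ψ : B → ℂ) 1 = a * (θ : Z → ℂ) 1 from hr 1, h2, ← mul_assoc] at h1
    exact_mod_cast (mul_right_cancel₀ (IsIrr.apply_one_ne_zero θ.2) h1).symm
  have hm1 : m = 1 := by
    rw [mul_assoc, hd] at hm
    exact (Nat.mul_eq_right ha0).mp hm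
  rw [hm1, one_mul] at hcard
  exact inertia_le_of_mult_one η ha hd hcard

end Abstract

variable {H : Type*} [Group H] [Fintype H] {Z : Subgroup H} {χ : Cfsg.IrrCharacter H}

/-- Cyclic Sylow subgroups of `H / K` have complements. -/
theorem exists_complement_of_cyclic [Z.Normal] (D : Data Z χ) (K : Subgroup H) [K.Normal]
    (hZK : Z ≤ K) {p : ℕ} [Fact p.Prime] (S : Sylow p H)
    (hcyc : IsCyclic ((S : Subgroup H).map (QuotientGroup.mk' K))) :
    ∃ M : Subgroup (H ⧸ K), M.IsComplement' ((S : Subgroup H).map (QuotientGroup.mk' K)) := by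
  set U := (S : Subgroup H) ⊔ Z with hU
  have := Fintype.ofFinite U
  have := Fintype.ofFinite (K.subgroupOf U)
  have := Fintype.ofFinite (Z.subgroupOf U)
  obtain ⟨ψ, θ', c, e', -, hpe', hidx, hψr, hψv, hχψ, -⟩ := exists_sylow_char D S U hU
  have hψK : Cfsg.IsCharacter (K.subgroupOf U) fun l : K.subgroupOf U => (ψ : U → ℂ) l :=
    IsChar.restrict _ (IsIrr.isCharacter ψ.2)
  obtain ⟨η, hη⟩ := exists_constituent (IsChar.isClassFunction hψK) fun h =>
    IsIrr.apply_one_ne_zero ψ.2 (congrFun h 1)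
  have hq : IsCyclic (U ⧸ K.subgroupOf U) := by
    have hmap : U.map (QuotientGroup.mk' K) = (S : Subgroup H).map (QuotientGroup.mk' K) := by
      refine le_antisymm ?_ (Subgroup.map_mono (hU ▸ le_sup_left))
      rw [hU, Subgroup.map_sup, sup_le_iff]
      refine ⟨le_rfl, ?_⟩
      rintro _ ⟨z, hz, rfl⟩
      rw [show QuotientGroup.mk' K z = 1 from (QuotientGroup.eq_one_iff z).mpr (hZK hz)]
      exact Subgroup.one_mem _
    rw [← hmap] at hcyc
    let f : U →* U.map (QuotientGroup.mk' K) := (QuotientGroup.mk' K).subgroupMap U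
    have hker : K.subgroupOf U ≤ f.ker := fun u hu => MonoidHom.mem_ker.mpr
      (Subtype.ext ((QuotientGroup.eq_one_iff (u : H)).mpr (Subgroup.mem_subgroupOf.mp hu)))
    refine isCyclic_of_injective (QuotientGroup.lift _ f hker) ?_
    rw [injective_iff_map_eq_one]
    intro q
    induction q using QuotientGroup.induction_on with
    | H u =>
      intro hu
      exact (QuotientGroup.eq_one_iff u).mpr (Subgroup.mem_subgroupOf.mpr
        ((QuotientGroup.eq_one_iff (u : H)).mp (congrArg Subtype.val hu)))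
  refine exists_complement D K hZK S U hU η ?_ (inertia_le_of_cyclic
    (fun z hz => Subgroup.mem_subgroupOf.mpr (hZK (Subgroup.mem_subgroupOf.mp hz)))
    hψv hψr (by rw [hidx, ← pow_mul, mul_comm]) hq η hη)
  rw [show (fun l : K.subgroupOf U => (χ : H → ℂ) ((l : U) : H)) =
    (e' : ℂ) • fun l : K.subgroupOf U => (ψ : U → ℂ) l from funext fun l => hχψ l,
    classInner_smul_left]
  exact mul_ne_zero (Nat.cast_ne_zero.mpr fun h => hpe' (h ▸ dvd_zero p)) hη

/-- If `χ` is induced from `K`, every Sylow subgroup of `H / K` has a complement. -/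
theorem exists_complement_of_induced [Z.Normal] (D : Data Z χ) (K : Subgroup H) [K.Normal]
    [Fintype K] (hZK : Z ≤ K) {φ : K → ℂ} (hφ : Cfsg.IsCharacter K φ)
    (hind : Cfsg.indFun K φ = (χ : H → ℂ)) {p : ℕ} [hp : Fact p.Prime] (S : Sylow p H) :
    ∃ M : Subgroup (H ⧸ K), M.IsComplement' ((S : Subgroup H).map (QuotientGroup.mk' K)) := by
  set U := (S : Subgroup H) ⊔ Z with hU
  have := Fintype.ofFinite U
  have := Fintype.ofFinite (K.subgroupOf U)
  have := Fintype.ofFinite (Z.subgroupOf U)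
  have := Fintype.ofFinite (Cfsg.IrrCharacter K)
  have := Fintype.ofFinite (Cfsg.IrrCharacter (K.subgroupOf U))
  have hZU : Z ≤ U := hU ▸ le_sup_right
  obtain ⟨ψ, θ', c, e', hee', hpe', hidx, hψr, hψv, hχψ, hθ'⟩ := exists_sylow_char D S U hU
  let φ₀ : Cfsg.IrrCharacter K := ⟨φ, CfsgLib.FieldDegree.isIrr_of_indFun hφ (hind.symm ▸ χ.2)⟩
  let ι : K.subgroupOf U →* K :=
    { toFun := fun l => ⟨((l : U) : H), Subgroup.mem_subgroupOf.mp l.2⟩
      map_one' := rfl
      map_mul' := fun _ _ => rfl }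
  have hφι : Cfsg.IsCharacter (K.subgroupOf U) fun l => φ (ι l) := IsChar.comp ι hφ
  choose kk hkk using fun η : Cfsg.IrrCharacter (K.subgroupOf U) =>
    IsChar.classInner_eq_natCast hφι (IsIrr.isCharacter η.2)
  have hφsum := classFunction_eq_sum (IsChar.isClassFunction hφι)
  -- constituents of `φ` lie under `χ`
  have hunder : ∀ η : Cfsg.IrrCharacter (K.subgroupOf U), kk η ≠ 0 →
      Cfsg.classInner (fun l : K.subgroupOf U => (ψ : U → ℂ) l)
        (η : K.subgroupOf U → ℂ) ≠ 0 := by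
    intro η hη hz
    have hχK : Cfsg.IsCharacter K fun x : K => (χ : H → ℂ) x := IsChar.restrict K (IsIrr.isCharacter χ.2)
    obtain ⟨w, hw⟩ := IsChar.exists_sum hχK
    have hwφ : w φ₀ ≠ 0 := by
      intro h0
      have h1 := classInner_irr_self χ
      nth_rewrite 1 [← hind] at h1
      rw [frobenius_reciprocity K φ (IsIrr.isClassFunction χ.2), ← classInner_conj_symm, hw,
        classInner_sum_irr _ φ₀, h0, Nat.cast_zero, map_zero] at h1
      exact zero_ne_one h1
    choose v hv using fun φ' : Cfsg.IrrCharacter K =>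
      IsChar.classInner_eq_natCast (IsChar.comp ι (IsIrr.isCharacter φ'.2)) (IsIrr.isCharacter η.2)
    have h2 : Cfsg.classInner (fun l : K.subgroupOf U => (χ : H → ℂ) ((l : U) : H))
        (η : K.subgroupOf U → ℂ) = 0 := by
      rw [show (fun l : K.subgroupOf U => (χ : H → ℂ) ((l : U) : H)) =
        (e' : ℂ) • fun l : K.subgroupOf U => (ψ : U → ℂ) l from funext fun l => hχψ l,
        classInner_smul_left, hz, mul_zero]
    rw [show (fun l : K.subgroupOf U => (χ : H → ℂ) ((l : U) : H)) =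
      ∑ φ' : Cfsg.IrrCharacter K, (w φ' : ℂ) • fun l => (φ' : K → ℂ) (ι l) from funext fun l => by
        have h := congrFun hw (ι l)
        simp only [Finset.sum_apply, Pi.smul_apply] at h ⊢
        exact h, classInner_sum_left] at h2
    simp only [classInner_smul_left, hv] at h2
    have h3 : ∑ φ', w φ' * v φ' = 0 := by exact_mod_cast h2
    have h4 := Finset.sum_eq_zero_iff.mp h3 φ₀ (Finset.mem_univ _)
    refine hη ?_
    have h5 : (kk η : ℂ) = v φ₀ := (hkk η).symm.trans (hv φ₀)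
    rw [Nat.cast_inj.mp h5]
    exact (Nat.mul_eq_zero.mp h4).resolve_left hwφ
  obtain ⟨η, hη⟩ : ∃ η, kk η ≠ 0 := by
    by_contra h
    push Not at h
    refine IsIrr.apply_one_ne_zero φ₀.2 ?_
    have := congrFun hφsum 1
    simpa [hkk, h] using this
  have hZL : Z.subgroupOf U ≤ K.subgroupOf U :=
    fun z hz => Subgroup.mem_subgroupOf.mpr (hZK (Subgroup.mem_subgroupOf.mp hz))
  obtain ⟨⟨b, m, hb, hbz, hm, hcard⟩, htrans⟩ :=
    restrict_normal hZL hψv hψr η (hunder η hη)
  obtain ⟨t, ht⟩ : ∃ t, (inertia (inferInstance : (K.subgroupOf U).Normal) (η : K.subgroupOf U → ℂ)).index = t := ⟨_, rfl⟩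
  rw [ht] at hm
  -- all constituents have the same degree
  have hdeg1 : φ 1 = ((∑ η', kk η' : ℕ) : ℂ) * ((b : ℂ) * (θ' : Z.subgroupOf U → ℂ) 1) := by
    have h := congrFun hφsum 1
    rw [map_one] at h
    rw [h, Finset.sum_apply, Nat.cast_sum, Finset.sum_mul]
    refine Finset.sum_congr rfl fun η' _ => ?_
    rw [Pi.smul_apply, hkk, smul_eq_mul]
    by_cases h0 : kk η' = 0
    · rw [h0, Nat.cast_zero, zero_mul, zero_mul]
    congr 1
    obtain ⟨g, hg⟩ := htrans η' (hunder η' h0)
    rw [hg, conjFn_apply, ← hbz 1]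
    exact congrArg (η : K.subgroupOf U → ℂ) (Subtype.ext (by simp))
  have he : D.e = K.index * (∑ η', kk η') * b := by
    have h := congrFun hind 1
    rw [indFun_apply_one, hdeg1, show (χ : H → ℂ) 1 = D.e * (D.θ : Z → ℂ) 1 from D.res 1,
      show (θ' : Z.subgroupOf U → ℂ) 1 = (D.θ : Z → ℂ) 1 from hθ' 1 Z.one_mem,
      ← mul_assoc, ← mul_assoc] at h
    exact_mod_cast (mul_right_cancel₀ (IsIrr.apply_one_ne_zero D.θ.2) h).symm
  -- arithmetic
  have hLidx : m * (m * t) = (K.subgroupOf U).index := by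
    refine Nat.eq_of_mul_eq_mul_right (Nat.card_pos (α := K.subgroupOf U)) ?_
    rw [(K.subgroupOf U).index_mul_card, ← (Z.subgroupOf U).card_mul_index, hidx]
    calc m * (m * t) * Nat.card (K.subgroupOf U) = m * t * (m * Nat.card (K.subgroupOf U)) := by ring
      _ = m * t * (p ^ c * b * Nat.card (Z.subgroupOf U)) := by rw [hcard]
      _ = (m * t * b) * p ^ c * Nat.card (Z.subgroupOf U) := by ring
      _ = _ := by rw [hm, two_mul, pow_add]; ring
  have hm1 : m = 1 := by
    obtain ⟨i, -, hi⟩ := (Nat.dvd_prime_pow hp.out).mp (show m * t ∣ p ^ c from ⟨b, hm.symm⟩)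
    obtain ⟨i', -, hi'⟩ := (Nat.dvd_prime_pow hp.out).mp (show b ∣ p ^ c from ⟨m * t, by rw [← hm]; ring⟩)
    have hLp : (K.subgroupOf U).index ∣ p ^ (2 * c) := hidx ▸ Subgroup.index_dvd_of_le hZL
    obtain ⟨l, -, hl⟩ := (Nat.dvd_prime_pow hp.out).mp hLp
    have hLK : (K.subgroupOf U).index ∣ K.index := Subgroup.relIndex_dvd_index_of_normal K U
    have hdvd : (K.subgroupOf U).index * b ∣ p ^ c * e' :=
      hee' ▸ he ▸ Nat.mul_dvd_mul_right (hLK.mul_right _) b
    have hdvd' : (K.subgroupOf U).index * b ∣ p ^ c := by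
      refine Nat.Coprime.dvd_of_dvd_mul_right ?_ hdvd
      rw [hl, hi', ← pow_add]
      exact (hp.out.coprime_iff_not_dvd.mpr hpe').pow_left _
    rw [← hm, Nat.mul_dvd_mul_iff_right hb, ← hLidx] at hdvd'
    have hpos : 0 < m * t := by rw [hi]; exact pow_pos hp.out.pos i
    exact Nat.dvd_one.mp ((Nat.mul_dvd_mul_iff_right hpos).mp (by rwa [one_mul]))
  rw [hm1, one_mul] at hm hcard
  rw [← ht] at hm
  refine exists_complement D K hZK S U hU η ?_
    (inertia_le_of_mult_one η (by rw [hidx, ← pow_mul, mul_comm]) hm hcard)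
  rw [show (fun l : K.subgroupOf U => (χ : H → ℂ) ((l : U) : H)) =
    (e' : ℂ) • fun l : K.subgroupOf U => (ψ : U → ℂ) l from funext fun l => hχψ l,
    classInner_smul_left]
  exact mul_ne_zero (Nat.cast_ne_zero.mpr fun h => hpe' (h ▸ dvd_zero p)) (hunder η hη)

end CfsgLib.FullyRamified
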