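import Cfsg.Agent.Lib.Char.FullyRamified.Basic
import Cfsg.Agent.Lib.Char.CliffordRestrict
import Mathlib.Data.ZMod.Basic
import Mathlib.RingTheory.RootsOfUnity.Complex

/-!
# Twisted powers of groups of central type

`Tw H₀ p` is the product of the `p`-th power of `H₀` and the Heisenberg group of order `p ^ 3`,
extended by the shift.
-/

namespace CfsgLib.FullyRamified

open CfsgLib.Char CfsgLib.CharDegree CfsgLib.Clifford
open scoped Classical ComplexConjugate

universe u

/-- The twisted power. -/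
@[ext]
structure Tw (H₀ : Type u) (p : ℕ) : Type u where
  /-- the coordinates in `H₀` -/
  f : ZMod p → H₀
  /-- the central coordinate -/
  z : ZMod p
  /-- the first Heisenberg coordinate -/
  a : ZMod p
  /-- the shift -/
  b : ZMod p

namespace Tw

variable {H₀ : Type u} [Group H₀] {p : ℕ}

instance : Mul (Tw H₀ p) :=
  ⟨fun x y => ⟨fun i => x.f i * y.f (i + x.b), x.z + y.z + x.b * y.a, x.a + y.a, x.b + y.b⟩⟩

instance : One (Tw H₀ p) := ⟨⟨fun _ => 1, 0, 0, 0⟩⟩

instance : Inv (Tw H₀ p) :=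
  ⟨fun x => ⟨fun i => (x.f (i - x.b))⁻¹, -x.z + x.b * x.a, -x.a, -x.b⟩⟩

theorem mul_def (x y : Tw H₀ p) : x * y =
    ⟨fun i => x.f i * y.f (i + x.b), x.z + y.z + x.b * y.a, x.a + y.a, x.b + y.b⟩ := rfl

theorem one_def : (1 : Tw H₀ p) = ⟨fun _ => 1, 0, 0, 0⟩ := rfl

theorem inv_def (x : Tw H₀ p) :
    x⁻¹ = ⟨fun i => (x.f (i - x.b))⁻¹, -x.z + x.b * x.a, -x.a, -x.b⟩ := rfl

instance : Group (Tw H₀ p) where
  mul_assoc x y w := by
    simp only [mul_def, Tw.mk.injEq]
    refine ⟨funext fun i => ?_, by ring, by ring, by ring⟩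
    rw [mul_assoc, add_assoc]
  one_mul x := by ext <;> simp [mul_def, one_def]
  mul_one x := by ext <;> simp [mul_def, one_def]
  inv_mul_cancel x := by
    simp only [mul_def, inv_def, one_def, Tw.mk.injEq]
    refine ⟨funext fun i => ?_, by ring, by ring, by ring⟩
    rw [← sub_eq_add_neg, inv_mul_cancel]

/-- The underlying product of sets. -/
def equivProd : Tw H₀ p ≃ ((ZMod p → H₀) × ZMod p × ZMod p) × ZMod p where
  toFun x := ((x.f, x.z, x.a), x.b)
  invFun x := ⟨x.1.1, x.1.2.1, x.1.2.2, x.2⟩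
  left_inv _ := rfl
  right_inv _ := rfl

instance [Finite H₀] [NeZero p] : Finite (Tw H₀ p) := Finite.of_equiv _ (equivProd).symm

noncomputable instance [Fintype H₀] [NeZero p] : Fintype (Tw H₀ p) := Fintype.ofFinite _

omit [Group H₀] in
theorem card_eq [Finite H₀] [NeZero p] :
    Nat.card (Tw H₀ p) = Nat.card H₀ ^ p * p ^ 3 := by
  rw [Nat.card_congr equivProd, Nat.card_prod, Nat.card_prod, Nat.card_prod, Nat.card_fun,
    Nat.card_zmod]
  ring

/-- The elements without shift. -/
def base (H₀ : Type u) [Group H₀] (p : ℕ) : Subgroup (Tw H₀ p) where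
  carrier := {x | x.b = 0}
  one_mem' := rfl
  mul_mem' := fun {x y} hx hy => by
    show x.b + y.b = 0
    rw [show x.b = 0 from hx, show y.b = 0 from hy, add_zero]
  inv_mem' := fun {x} hx => by
    show -x.b = 0
    rw [show x.b = 0 from hx, neg_zero]

theorem mem_base {x : Tw H₀ p} : x ∈ base H₀ p ↔ x.b = 0 := Iff.rfl

instance base_normal : (base H₀ p).Normal :=
  ⟨fun x hx g => by
    show g.b + x.b + -g.b = 0
    rw [show x.b = 0 from hx]; ring⟩

theorem base_f_mul (x y : base H₀ p) (i : ZMod p) :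
    ((x * y : base H₀ p) : Tw H₀ p).f i = (x : Tw H₀ p).f i * (y : Tw H₀ p).f i := by
  show (x : Tw H₀ p).f i * (y : Tw H₀ p).f (i + (x : Tw H₀ p).b) = _
  rw [show (x : Tw H₀ p).b = 0 from x.2, add_zero]

/-- A coordinate of the base. -/
def proj (i : ZMod p) : base H₀ p →* H₀ where
  toFun x := (x : Tw H₀ p).f i
  map_one' := rfl
  map_mul' x y := base_f_mul x y i

theorem conj_f (y x : Tw H₀ p) (hx : x.b = 0) (i : ZMod p) :
    (y * x * y⁻¹).f i = y.f i * x.f (i + y.b) * (y.f i)⁻¹ := by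
  simp only [mul_def, inv_def, hx]
  congr 2
  exact congrArg y.f (by ring)

theorem conj_z (y x : Tw H₀ p) (hx : x.b = 0) : (y * x * y⁻¹).z = x.z + y.b * x.a := by
  simp only [mul_def, inv_def, hx]
  ring

theorem conj_a (y x : Tw H₀ p) : (y * x * y⁻¹).a = x.a := by
  simp only [mul_def, inv_def]
  ring

end Tw

variable {H₀ : Type u} [Group H₀] [Fintype H₀]

/-- A faithful fully ramified character defines a character of the centre. -/
theorem exists_central_char (χ : Cfsg.IrrCharacter H₀)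
    (hfaith : ∀ h : H₀, (χ : H₀ → ℂ) h = (χ : H₀ → ℂ) 1 → h = 1)
    (hsq : Cfsg.charDegree (χ : H₀ → ℂ) ^ 2 = (Subgroup.center H₀).index) :
    ∃ l : Subgroup.center H₀ →* ℂˣ, Function.Injective l ∧
      (∀ x : Subgroup.center H₀,
        (χ : H₀ → ℂ) x = Cfsg.charDegree (χ : H₀ → ℂ) * (l x : ℂ)) ∧
      ∀ x : H₀, x ∉ Subgroup.center H₀ → (χ : H₀ → ℂ) x = 0 := by
  obtain ⟨n, ρ, hρ, hρχ, hn⟩ := exists_rep χ
  choose c hc using fun x : Subgroup.center H₀ =>
    CfsgLib.CharIntegral.exists_scalar_of_commute ρ (ρ (x : H₀)) fun a => by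
      rw [← map_mul, ← map_mul, Subgroup.mem_center_iff.mp x.2 a]
  have hd : ((Cfsg.charDegree (χ : H₀ → ℂ) : ℕ) : ℂ) ≠ 0 :=
    Nat.cast_ne_zero.mpr (charDegree_pos χ).ne'
  have hval : ∀ x : Subgroup.center H₀, (χ : H₀ → ℂ) x = Cfsg.charDegree (χ : H₀ → ℂ) * c x := by
    intro x
    rw [← congrFun hρχ]
    simp only [Representation.character, hc, map_smul, LinearMap.trace_id, smul_eq_mul,
      Module.finrank_fin_fun, hn]
    ring
  have hinj : Function.Injective fun d : ℂ => d • (LinearMap.id : Module.End ℂ (Fin n → ℂ)) := by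
    intro d d' h
    have h1 := congrArg (LinearMap.trace ℂ (Fin n → ℂ)) h
    simp only [map_smul, LinearMap.trace_id, smul_eq_mul, Module.finrank_fin_fun, hn] at h1
    exact mul_right_cancel₀ hd h1
  let cm : Subgroup.center H₀ →* ℂ :=
    { toFun := c
      map_one' := hinj (by
        show c 1 • LinearMap.id = (1 : ℂ) • LinearMap.id
        rw [← hc, OneMemClass.coe_one, map_one, one_smul]
        rfl)
      map_mul' := fun x y => hinj (by
        show c (x * y) • LinearMap.id = (c x * c y) • LinearMap.id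
        rw [← hc, Subgroup.coe_mul, map_mul, hc x, hc y, mul_smul]
        exact LinearMap.ext fun v => rfl) }
  refine ⟨cm.toHomUnits, (injective_iff_map_eq_one _).mpr fun x hx => Subtype.ext (hfaith _ ?_),
    fun x => hval x, ?_⟩
  · have h1 : c x = 1 := congrArg Units.val hx
    rw [hval, h1, mul_one, cast_irrDegree]
  · have := Fintype.ofFinite (Subgroup.center H₀)
    let θ : Cfsg.IrrCharacter (Subgroup.center H₀) :=
      ⟨fun x => (cm.toHomUnits x : ℂ), isIrrCharacter_linear _⟩
    exact (sq_le_and_vanish (θ := θ) χ _ fun x => hval x).2 hsq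

section Build

variable {p : ℕ} [hp : Fact p.Prime] (χ : Cfsg.IrrCharacter H₀)

/-- A primitive root of unity. -/
noncomputable def omega (p : ℕ) : ℂ := Complex.exp (2 * Real.pi * Complex.I / p)

theorem omega_isPrimitiveRoot (p : ℕ) [NeZero p] : IsPrimitiveRoot (omega p) p :=
  Complex.isPrimitiveRoot_exp p (NeZero.ne p)

theorem omega_pow_add (u v : ZMod p) :
    omega p ^ (u + v).val = omega p ^ u.val * omega p ^ v.val := by
  rw [← pow_add, ZMod.val_add, ← pow_eq_pow_mod _ (omega_isPrimitiveRoot p).pow_eq_one]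

theorem sum_omega (a : ZMod p) :
    ∑ b : ZMod p, omega p ^ (b * a).val = if a = 0 then (p : ℂ) else 0 := by
  split_ifs with ha
  · simp [ha, ZMod.card]
  · have h1 : omega p ^ a.val ≠ 1 := (omega_isPrimitiveRoot p).pow_ne_one_of_pos_of_lt
      (fun h => ha ((ZMod.val_eq_zero a).mp h)) (ZMod.val_lt a)
    have h : omega p ^ a.val * ∑ b : ZMod p, omega p ^ (b * a).val =
        ∑ b : ZMod p, omega p ^ (b * a).val := by
      rw [Finset.mul_sum]
      refine Fintype.sum_equiv (Equiv.addRight 1) _ _ fun b => ?_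
      rw [← omega_pow_add, Equiv.coe_addRight, add_mul, one_mul, add_comm]
    by_contra h0
    exact h1 (mul_right_cancel₀ h0 (by rw [h, one_mul]))

/-- The character of the base. -/
noncomputable def baseChar : Tw.base H₀ p → ℂ := fun x =>
  (∏ i : ZMod p, (χ : H₀ → ℂ) ((x : Tw H₀ p).f i)) * omega p ^ (x : Tw H₀ p).z.val

omit [Fintype H₀] in
theorem isCharacter_baseChar : Cfsg.IsCharacter (Tw.base H₀ p) (baseChar (p := p) χ) := by
  have h1 : ∀ s : Finset (ZMod p), Cfsg.IsCharacter (Tw.base H₀ p)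
      (fun x => ∏ i ∈ s, (χ : H₀ → ℂ) ((x : Tw H₀ p).f i)) := by
    intro s
    induction s using Finset.induction with
    | empty => simpa using isCharacter_one
    | insert i s hi ih =>
      have h := IsChar.mul (IsChar.comp (Tw.proj i) (IsIrr.isCharacter χ.2)) ih
      convert h using 1
      funext x
      rw [Finset.prod_insert hi]
      rfl
  let μ : Tw.base H₀ p →* ℂˣ :=
    ({ toFun := fun x => omega p ^ (x : Tw H₀ p).z.val
       map_one' := by
         show omega p ^ (0 : ZMod p).val = 1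
         rw [ZMod.val_zero, pow_zero]
       map_mul' := fun x y => by
         show omega p ^ ((x : Tw H₀ p).z + (y : Tw H₀ p).z + (x : Tw H₀ p).b * (y : Tw H₀ p).a).val = _
         rw [show (x : Tw H₀ p).b = 0 from x.2, zero_mul, add_zero, omega_pow_add] } :
      Tw.base H₀ p →* ℂ).toHomUnits
  exact IsChar.mul (h1 Finset.univ) (IsIrr.isCharacter (isIrrCharacter_linear μ))

/-- The character of the twisted power. -/
noncomputable def twChar : Tw H₀ p → ℂ := Cfsg.indFun (Tw.base H₀ p) (baseChar χ)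

theorem twChar_coe (x : Tw H₀ p) (hb : x.b = 0) :
    twChar χ x = (∏ i : ZMod p, (χ : H₀ → ℂ) (x.f i)) * omega p ^ x.z.val *
      (if x.a = 0 then (p : ℂ) else 0) := by
  have hN : (Tw.base H₀ p).Normal := inferInstance
  have hval : ∀ y : Tw H₀ p, conjFn hN (baseChar χ) y (⟨x, hb⟩ : Tw.base H₀ p) =
      (∏ i : ZMod p, (χ : H₀ → ℂ) (x.f i)) * omega p ^ x.z.val * omega p ^ (y.b * x.a).val := by
    intro y
    rw [conjFn_apply]
    show (∏ i : ZMod p, (χ : H₀ → ℂ) ((y * x * y⁻¹).f i)) * omega p ^ (y * x * y⁻¹).z.val = _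
    rw [Tw.conj_z y x hb, omega_pow_add, ← mul_assoc]
    congr 2
    exact Fintype.prod_equiv (Equiv.addRight y.b) _ _ fun i => by
      rw [Tw.conj_f y x hb]
      exact IsIrr.isClassFunction χ.2 _ _
  have hcard : Nat.card (Tw.base H₀ p) = Nat.card ((ZMod p → H₀) × ZMod p × ZMod p) :=
    Nat.card_congr
      { toFun := fun w => ((w : Tw H₀ p).f, (w : Tw H₀ p).z, (w : Tw H₀ p).a)
        invFun := fun w => ⟨⟨w.1, w.2.1, w.2.2, 0⟩, rfl⟩
        left_inv := fun w => Subtype.ext (Tw.ext rfl rfl rfl (show 0 = (w : Tw H₀ p).b from w.2.symm))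
        right_inv := fun w => rfl }
  have : Fintype (Tw.base H₀ p) := Fintype.ofFinite _
  rw [twChar, show x = ((⟨x, hb⟩ : Tw.base H₀ p) : Tw H₀ p) from rfl, indFun_coe_normal hN,
    Finset.sum_congr rfl fun y _ => hval y, ← Finset.mul_sum,
    Fintype.sum_equiv Tw.equivProd (fun y : Tw H₀ p => omega p ^ (y.b * x.a).val)
      (fun w => omega p ^ (w.2 * x.a).val) (fun y => rfl), Fintype.sum_prod_type]
  simp only [sum_omega, Finset.sum_const, nsmul_eq_mul, Finset.card_univ]
  rw [hcard, ← Nat.card_eq_fintype_card]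
  have hne := (Nat.cast_ne_zero (R := ℂ)).mpr
    (Nat.card_pos (α := (ZMod p → H₀) × ZMod p × ZMod p)).ne'
  field_simp

theorem twChar_off (x : Tw H₀ p) (hb : x.b ≠ 0) : twChar χ x = 0 :=
  indFun_eq_zero_off_normal (inferInstance : (Tw.base H₀ p).Normal) _ hb

end Build

end CfsgLib.FullyRamified
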